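import Cfsg.Agent.Lib.Co1Recog.NonWeak.Reps

/-!
The isometries fixing a totally singular four-space pointwise, in six coordinates.
-/

set_option autoImplicit false
set_option linter.style.haveILetI false
set_option linter.unusedSectionVars false
set_option maxRecDepth 20000
set_option maxHeartbeats 1000000
set_option synthInstance.maxSize 4000
set_option synthInstance.maxHeartbeats 400000

namespace Cfsg.Agent.Co1NW

open Subgroup LargeExtra CoT

local notation "F" => ZMod 2

/-- An alternating form on four coordinates. -/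
abbrev K6 := F × F × F × F × F × F

/-- The Pfaffian. -/
def pf : K6 → F := fun (a, b, c, d, e, f) => a * f + b * e + c * d

/-- The six coordinates of a map fixing the four-space. -/
def key (f : V → V) : K6 :=
  (bil (dd f f0) f1, bil (dd f f0) f2, bil (dd f f0) f3, bil (dd f f1) f2, bil (dd f f1) f3,
    bil (dd f f2) f3)

/-- The elementary map attached to two basis vectors. -/
def el (c : F) (a b v : V) : V := sm c (sm (bil v a) b + sm (bil v b) a)

/-- The map with given coordinates. -/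
def mka : K6 → V → V := fun (a, b, c, d, e, f) v =>
  v + el a e0 e1 v + el b e0 e2 v + el c e0 e3 v + el d e1 e2 v + el e e1 e3 v + el f e2 e3 v

/-- The twelve transvections of the four-space. -/
def op : Fin 12 → V × V := fun i =>
  ([(e0, f1), (e0, f2), (e0, f3), (e1, f0), (e1, f2), (e1, f3), (e2, f0), (e2, f1), (e2, f3),
    (e3, f0), (e3, f1), (e3, f2)] : List (V × V)).getD i.1 (e0, f1)

/-- The action of a transvection on the coordinates. -/
def act (b : K6) (i : Fin 12) : K6 :=
  key fun v => sg (op i).1 (op i).2 (mka b (sg (op i).1 (op i).2 v))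

def wordList : List (List (Fin 12)) :=
  [[], [0], [0, 1], [0, 1, 3], [0, 1, 3, 0], [0, 1, 6], [0, 1, 6, 1], [0, 1, 9], [0, 1, 10],
   [0, 1, 11], [0, 3], [0, 3, 0], [0, 3, 0, 7], [0, 3, 1, 0], [0, 3, 6], [0, 6], [0, 6, 3, 1],
   [0, 6, 11], [0, 11], [1], [1, 0], [1, 3], [1, 3, 6], [1, 3, 6, 0], [1, 3, 10], [1, 6], [1, 6, 1],
   [1, 6, 1, 0], [1, 10], [3], [3, 0], [3, 1], [3, 1, 0], [3, 6], [6], [6, 0], [6, 1], [6, 1, 0],
   [6, 3], [6, 3, 0], [6, 3, 1], [7, 0, 3, 0], [9, 1, 0], [10, 1], [10, 1, 0], [10, 3, 1], [11, 0],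
   [11, 1, 0], [11, 6, 0]]

/-- The coordinates of the standard form. -/
def key0 : K6 := (0, 0, 1, 1, 0, 0)

theorem to_key0 : ∀ b : K6, pf b = 1 →
    (wordList.any fun w => decide (w.foldl act b = key0)) = true := by
  decide +kernel

theorem of_key0 : ∀ b : K6, pf b = 1 →
    (wordList.any fun w => decide (w.foldl act key0 = b)) = true := by
  decide +kernel

/-- A non-empty set of non-singular coordinates closed under the transvections is everything. -/
theorem key_closed {S : K6 → Prop} {b₁ : K6} (hb : S b₁) (hp : pf b₁ = 1)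
    (hS : ∀ b i, S b → S (act b i)) : ∀ b, pf b = 1 → S b := by
  have hw : ∀ (w : List (Fin 12)) b, S b → S (w.foldl act b) := by
    intro w
    induction w with
    | nil => exact fun _ h => h
    | cons i w ih => exact fun b h => ih _ (hS b i h)
  intro b hb'
  obtain ⟨w, -, e⟩ := List.any_eq_true.1 (to_key0 b₁ hp)
  obtain ⟨w', -, e'⟩ := List.any_eq_true.1 (of_key0 b hb')
  rw [← of_decide_eq_true e', ← of_decide_eq_true e]
  exact hw _ _ (hw _ _ hb)

theorem card_key : Nat.card {b : K6 // pf b = 1} = 28 := by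
  rw [Nat.card_eq_fintype_card]
  decide +kernel

/-- A basis with non-singular sums. -/
def star : Fin 6 → K6 :=
  ![(0, 0, 1, 1, 0, 0), (0, 1, 0, 1, 1, 0), (0, 1, 1, 0, 1, 1), (1, 0, 0, 1, 1, 1), (1, 0, 1, 0, 0, 1),
    (1, 1, 0, 1, 0, 1)]

theorem star_pf : (∀ i, pf (star i) = 1) ∧ ∀ i j, i ≠ j → pf (star i + star j) = 1 := by decide +kernel

/-- A combination of the basis. -/
def scomb (c : Fin 6 → Bool) : K6 :=
  (if c 0 then star 0 else 0) + (if c 1 then star 1 else 0) + (if c 2 then star 2 else 0) +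
    (if c 3 then star 3 else 0) + (if c 4 then star 4 else 0) + (if c 5 then star 5 else 0)

theorem star_span : ∀ b : K6, ∃ a0 a1 a2 a3 a4 a5 : Bool, b = scomb ![a0, a1, a2, a3, a4, a5] := by
  decide +kernel

theorem el_add (c : F) (a b u v : V) : el c a b (u + v) = el c a b u + el c a b v := by
  simp only [el, bil_add_left, sm_add, sm_add_right]
  abel

theorem mk_add (b : K6) (u v : V) : mka b (u + v) = mka b u + mka b v := by
  obtain ⟨a, b, c, d, e, f⟩ := b
  simp only [mka, el_add]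
  abel

theorem fix_table : ∀ v : V, bil v e0 = 0 → bil v e1 = 0 → bil v e2 = 0 → bil v e3 = 0 →
    v = sm (bil v f0) e0 + sm (bil v f1) e1 + sm (bil v f2) e2 + sm (bil v f3) e3 ∧ q v = 0 := by
  decide +kernel

theorem mk_e : ∀ b : K6, mka b e0 = e0 ∧ mka b e1 = e1 ∧ mka b e2 = e2 ∧ mka b e3 = e3 := by
  decide +kernel

theorem mk_f : ∀ a b c d e f : F,
    mka (a, b, c, d, e, f) f0 = f0 + (sm 0 e0 + sm a e1 + sm b e2 + sm c e3) ∧
    mka (a, b, c, d, e, f) f1 = f1 + (sm a e0 + sm 0 e1 + sm d e2 + sm e e3) ∧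
    mka (a, b, c, d, e, f) f2 = f2 + (sm b e0 + sm d e1 + sm 0 e2 + sm f e3) ∧
    mka (a, b, c, d, e, f) f3 = f3 + (sm c e0 + sm e e1 + sm f e2 + sm 0 e3) := by
  decide +kernel

theorem key_mk : ∀ b : K6, key (mka b) = b := by decide +kernel

theorem pf_zero_table : ∀ b : K6, pf b = 0 → ∃ a0 a1 a2 a3 : F,
    mka b (sm a0 f0 + sm a1 f1 + sm a2 f2 + sm a3 f3) = sm a0 f0 + sm a1 f1 + sm a2 f2 + sm a3 f3 ∧
    ∃ e ∈ [e0, e1, e2, e3], bil (sm a0 f0 + sm a1 f1 + sm a2 f2 + sm a3 f3) e = 1 := by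
  decide +kernel

/-- An isometry fixing the four-space is given by its coordinates. -/
theorem eq_mk {k : V → V} (hk : IsIso k) (h0 : k e0 = e0) (h1 : k e1 = e1) (h2 : k e2 = e2)
    (h3 : k e3 = e3) : k = mka (key k) := by
  have perp : ∀ v e, k e = e → bil (dd k v) e = 0 := fun v e he => by
    rw [dd, bil_add_left]
    conv_lhs => enter [1, 2]; rw [← he]
    rw [hk.bil_eq, F_add_self]
  have img : ∀ v, dd k v = sm (bil (dd k v) f0) e0 + sm (bil (dd k v) f1) e1 + sm (bil (dd k v) f2) e2 +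
      sm (bil (dd k v) f3) e3 ∧ q (dd k v) = 0 := fun v =>
    fix_table _ (perp v e0 h0) (perp v e1 h1) (perp v e2 h2) (perp v e3 h3)
  have exp : ∀ v, k v = v + dd k v := fun v => by
    rw [dd, add_comm (k v) v, ← add_assoc, CoT.add_self, zero_add]
  have diag : ∀ v, bil (dd k v) v = 0 := fun v => by
    have := hk.qq v
    rw [exp, q_add, (img v).2, add_zero, CoT.bil_comm] at this
    exact add_eq_left.1 this
  have sym : ∀ u v, bil (dd k u) v = bil (dd k v) u := fun u v => by
    have := diag (u + v)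
    rw [show dd k (u + v) = dd k u + dd k v by simp only [dd, hk.add]; abel, bil_add_left,
      bil_add_right, bil_add_right, diag, diag, zero_add, add_zero] at this
    exact F_eq_of_add _ _ this
  obtain ⟨g0, g1, g2, g3⟩ := mk_e (key k)
  obtain ⟨r0, r1, r2, r3⟩ := mk_f (bil (dd k f0) f1) (bil (dd k f0) f2) (bil (dd k f0) f3)
    (bil (dd k f1) f2) (bil (dd k f1) f3) (bil (dd k f2) f3)
  refine ext_basis hk.add (mk_add _) fun b hb => ?_
  simp only [bas, List.mem_cons, List.not_mem_nil, or_false] at hb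
  rcases hb with rfl | rfl | rfl | rfl | rfl | rfl | rfl | rfl
  · rw [g0, h0]
  · rw [key, r0, exp f0]
    conv_lhs => rw [(img f0).1, diag f0]
  · rw [g1, h1]
  · rw [key, r1, exp f1]
    conv_lhs => rw [(img f1).1, diag f1, sym f1 f0]
  · rw [g2, h2]
  · rw [key, r2, exp f2]
    conv_lhs => rw [(img f2).1, diag f2, sym f2 f0, sym f2 f1]
  · rw [g3, h3]
  · rw [key, r3, exp f3]
    conv_lhs => rw [(img f3).1, diag f3, sym f3 f0, sym f3 f1, sym f3 f2]

theorem nf_e3 : nf e3 = mka key0 :=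
  ext_basis (nf_add e3) (mk_add key0) (by decide +kernel)

/-- The swap of `e3` and `f3`. -/
def tau (v : V) : V := (v.1, v.2.1, v.2.2.1, (v.2.2.2.2, v.2.2.2.1))

theorem tau_facts : (∀ u v, tau (u + v) = tau u + tau v) ∧ (∀ v, q (tau v) = q v) ∧
    (∀ v, tau (tau v) = v) ∧ (fun v => tau (nf f3 (tau v))) = nf e3 := by
  refine ⟨fun u v => rfl, fun v => by simp only [tau, q]; ring, fun v => rfl, ?_⟩
  exact ext_basis (fun u v => by
    show tau (nf f3 (tau u + tau v)) = tau (nf f3 (tau u)) + tau (nf f3 (tau v))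
    rw [nf_add]; rfl) (nf_add e3) (by decide +kernel)

theorem nf_e3_ker : ∀ v : V, dd (nf e3) v = 0 ↔
    bil v e0 = 0 ∧ bil v e1 = 0 ∧ bil v e2 = 0 ∧ bil v e3 = 0 := by
  decide +kernel

end Cfsg.Agent.Co1NW
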