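import Cfsg.Agent.Lib.Co1Recog.NonWeak.NoZx
import Cfsg.Agent.Lib.Co1Recog.NonWeak.ATable

/-!
The centraliser of `C_Q(x)` is elementary abelian.
-/

set_option autoImplicit false
set_option linter.style.haveILetI false
set_option linter.unusedSectionVars false
set_option maxRecDepth 20000
set_option maxHeartbeats 1000000
set_option synthInstance.maxSize 4000
set_option synthInstance.maxHeartbeats 400000

namespace Cfsg.Agent.Co1NW

open Subgroup LargeExtra CoT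

local notation "F" => ZMod 2

theorem op_facts : ∀ i, q (op i).1 = 0 ∧ bil (op i).2 (op i).1 = 0 := by decide +kernel

theorem op_keeps : ∀ i, ∀ v : V, bil v e0 = 0 ∧ bil v e1 = 0 ∧ bil v e2 = 0 ∧ bil v e3 = 0 →
    bil (sg (op i).1 (op i).2 v) e0 = 0 ∧ bil (sg (op i).1 (op i).2 v) e1 = 0 ∧
      bil (sg (op i).1 (op i).2 v) e2 = 0 ∧ bil (sg (op i).1 (op i).2 v) e3 = 0 := by
  decide +kernel

theorem e_ker : ∀ e ∈ [e0, e1, e2, e3],
    bil e e0 = 0 ∧ bil e e1 = 0 ∧ bil e e2 = 0 ∧ bil e e3 = 0 := by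
  decide +kernel

theorem mk_zero (v : V) : mka 0 v = v := by
  show mka (0, 0, 0, 0, 0, 0) v = v
  simp only [mka, el, sm_zero, add_zero]

theorem key_id : key (fun v => v) = 0 := by decide +kernel

theorem mk_span : ∀ b : K6, ∀ v : V, bil v e0 = 0 ∧ bil v e1 = 0 ∧ bil v e2 = 0 ∧ bil v e3 = 0 →
    mka b v = v := by
  intro b v ⟨a, a', c, c'⟩
  obtain ⟨b0, b1, b2, b3, b4, b5⟩ := b
  simp only [mka, el, a, a', c, c', sm_zero, add_zero]
  simp [sm_smul]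

theorem f_span : ∀ b : K6, ∀ f ∈ [f0, f1, f2, f3],
    bil (dd (mka b) f) e0 = 0 ∧ bil (dd (mka b) f) e1 = 0 ∧ bil (dd (mka b) f) e2 = 0 ∧
      bil (dd (mka b) f) e3 = 0 := by
  decide +kernel

theorem F_count : ∀ a b c : F, a + b = c → a = c + b := by decide +kernel

variable {G : Type*} [Group G] [Finite G] {z : G} {Q : Subgroup G} {π : G → V} {ρ : G → V → V}

/-- The elements of `Q` commuting with `x`. -/
abbrev Rx (Q : Subgroup G) (x : G) : Subgroup G := Q ⊓ centralizer ({x} : Set G)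

/-- Their centraliser. -/
abbrev AA (Q : Subgroup G) (x : G) : Subgroup G := centralizer (Rx Q x : Set G)

theorem mem_Rx {m x : G} : m ∈ Rx Q x ↔ m ∈ Q ∧ m * x = x * m := by
  rw [Subgroup.mem_inf, mem_centralizer_one]

theorem mem_AA {a x : G} : a ∈ AA Q x ↔ ∀ m ∈ Rx Q x, m * a = a * m := mem_centralizer_iff

namespace Pr

variable {g x : G} (P : Pr z Q π ρ g x)
include P

theorem mu_zero {μ : V} (M : Mu z Q π ρ x μ) {v : V} (h : dd (ρ x) v = 0) : bil v μ = 0 :=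
  (F_cases _).resolve_right fun e => P.no_zx (P.zx_of_mu M h e)

theorem comm_of_fixed {m : G} (hm : m ∈ Q) (h : dd (ρ x) (π m) = 0) : m * x = x * m := by
  obtain ⟨μ, M⟩ := P.exists_mu
  have := M.spec m hm h
  rw [P.mu_zero M h, zb_zero, mul_one] at this
  exact (mul_inv_eq_iff_eq_mul.1 this).symm

theorem z_Rx : z ∈ Rx Q x := mem_Rx.2 ⟨P.S.loc.mem, P.comm.symm⟩

theorem AA_z {a : G} (ha : a ∈ AA Q x) : a * z = z * a := (mem_AA.1 ha z P.z_Rx).symm

theorem x_AA : x ∈ AA Q x := mem_AA.2 fun _ hm => (mem_Rx.1 hm).2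

/-- The standard pair. -/
theorem exists_e3 : ∃ π' ρ' g' x', Pr z Q π' ρ' g' x' ∧ (∃ h, h * z = z * h ∧ h * x * h⁻¹ = x') ∧
    ρ' x' = mka key0 := by
  obtain ⟨g', x', P', hc, w, hw, e⟩ := P.exists_nf
  simp only [List.mem_cons, List.not_mem_nil, or_false] at hw
  rcases hw with rfl | rfl | rfl
  · exact ⟨π, ρ, g', x', P', hc, e.trans nf_e3⟩
  · obtain ⟨ha, hq, hi, ht⟩ := tau_facts
    refine ⟨fun a => tau (π a), fun h v => tau (ρ h (tau v)), g', x',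
      ⟨su_twist P.S ha hq hi, P.wk, P'.hx, P'.comm, P'.ne⟩, hc, ?_⟩
    show (fun v => tau (ρ x' (tau v))) = mka key0
    rw [e, ht, nf_e3]
  · exfalso
    obtain ⟨μ, M⟩ := P'.exists_mu
    have h1 : dd (ρ x') (e3 + f3) = 0 ∧ q (e3 + f3) = 1 := by rw [e]; decide +kernel
    obtain ⟨y, hy⟩ := P'.four _ h1.1
    refine one_ne_zero (h1.2.symm.trans ?_)
    rw [← hy, ← M.dq, P'.mu_zero M (P'.isom.dd_dd y)]

variable (hf : ρ x = mka key0)
include hf

theorem ker_iff (v : V) : dd (ρ x) v = 0 ↔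
    bil v e0 = 0 ∧ bil v e1 = 0 ∧ bil v e2 = 0 ∧ bil v e3 = 0 := by
  rw [hf, ← nf_e3]; exact nf_e3_ker v

theorem Rx_iff {m : G} (hm : m ∈ Q) : m ∈ Rx Q x ↔
    bil (π m) e0 = 0 ∧ bil (π m) e1 = 0 ∧ bil (π m) e2 = 0 ∧ bil (π m) e3 = 0 := by
  rw [← P.ker_iff hf, mem_Rx]
  refine ⟨fun ⟨_, h⟩ => ?_, fun h => ⟨hm, P.comm_of_fixed hm h⟩⟩
  obtain ⟨μ, M⟩ := P.exists_mu
  exact (P.fixed M hm h).1

theorem Rx_sq {m : G} (hm : m ∈ Rx Q x) : m * m = 1 := by
  obtain ⟨a, b, c, d⟩ := (P.Rx_iff hf (mem_Rx.1 hm).1).1 hm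
  rw [P.S.sq m (mem_Rx.1 hm).1, (fix_table _ a b c d).2, zb_zero]

theorem AA_key {a : G} (ha : a ∈ AA Q x) : ρ a = mka (key (ρ a)) := by
  have haz := P.AA_z ha
  have fe : ∀ e ∈ [e0, e1, e2, e3], ρ a e = e := by
    intro e he
    obtain ⟨m, hm, rfl⟩ := P.S.pi_surj e
    have h := mem_AA.1 ha m ((P.Rx_iff hf hm).2 (e_ker _ he))
    rw [← P.S.conj a haz m hm, ← h, mul_inv_cancel_right]
  exact eq_mk ⟨P.S.rho_add haz, P.S.rho_q haz⟩ (fe _ (by simp)) (fe _ (by simp)) (fe _ (by simp))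
    (fe _ (by simp))

theorem key_mul {a b : G} (ha : a ∈ AA Q x) (hb : b ∈ AA Q x) :
    key (ρ (a * b)) = key (ρ a) + key (ρ b) := by
  have hd : ∀ f ∈ [f0, f1, f2, f3], dd (ρ (a * b)) f = dd (ρ a) f + dd (ρ b) f := by
    intro f hf'
    have h1 : ρ b f = f + dd (ρ b) f := by
      rw [dd, add_comm (ρ b f) f, ← add_assoc, CoT.add_self, zero_add]
    have h2 : ρ a (dd (ρ b) f) = dd (ρ b) f := by
      rw [P.AA_key hf ha, P.AA_key hf hb]
      exact mk_span _ _ (f_span _ f hf')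
    show ρ (a * b) f + f = ρ a f + f + dd (ρ b) f
    rw [P.S.rho_mul (P.AA_z ha) (P.AA_z hb), h1, P.S.rho_add (P.AA_z ha), h2]
    abel
  simp only [key, hd f0 (by simp), hd f1 (by simp), hd f2 (by simp), bil_add_left]
  rfl

theorem key_one : key (ρ (1 : G)) = 0 := by
  rw [show ρ (1 : G) = fun v => v from funext P.S.rho_one]; exact key_id

theorem key_ker {a : G} (ha : a ∈ AA Q x) (h : key (ρ a) = 0) : a ∈ Rx Q x := by
  have hQ : a ∈ Q := (P.S.ker a (P.AA_z ha)).1 fun v => by rw [P.AA_key hf ha, h, mk_zero]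
  refine (P.Rx_iff hf hQ).2 ⟨?_, ?_, ?_, ?_⟩
  all_goals
    refine (F_cases _).resolve_right fun c => ?_
  case' refine_1 => obtain ⟨m, hm, e⟩ := P.S.pi_surj e0
  case' refine_2 => obtain ⟨m, hm, e⟩ := P.S.pi_surj e1
  case' refine_3 => obtain ⟨m, hm, e⟩ := P.S.pi_surj e2
  case' refine_4 => obtain ⟨m, hm, e⟩ := P.S.pi_surj e3
  all_goals
    have h' := (P.S.comm_iff hm hQ).1 (mem_AA.1 ha m ((P.Rx_iff hf hm).2 (by
      rw [e]; exact e_ker _ (by simp))))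
    rw [e, CoT.bil_comm, c] at h'
    exact one_ne_zero h'

theorem AA_rep {a b : G} (ha : a ∈ AA Q x) (hb : b ∈ AA Q x) (h : key (ρ a) = key (ρ b)) :
    a⁻¹ * b ∈ Rx Q x := by
  refine P.key_ker hf (mul_mem (inv_mem ha) hb) ?_
  have := P.key_mul hf ha (mul_mem (inv_mem ha) hb)
  rw [mul_inv_cancel_left, ← h] at this
  exact left_eq_add.1 this

/-- A conjugate in the centraliser has non-singular coordinates. -/
theorem key_conj {l v : G} (hv : v ∈ AA Q x) (hl : l * z * l⁻¹ = v) (hne : v ≠ z) :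
    Pr z Q π ρ l v ∧ pf (key (ρ v)) = 1 := by
  have Pv : Pr z Q π ρ l v := ⟨P.S, P.wk, hl, P.AA_z hv, hne⟩
  refine ⟨Pv, (F_cases _).resolve_left fun h0 => ?_⟩
  obtain ⟨a0, a1, a2, a3, hfix, e, he, hb⟩ := pf_zero_table _ h0
  rw [← P.AA_key hf hv] at hfix
  have := Pv.four.isotropic Pv.isom (u := sm a0 f0 + sm a1 f1 + sm a2 f2 + sm a3 f3) (v := e)
    (by rw [dd, hfix, CoT.add_self]) (by
      rw [dd, P.AA_key hf hv, mk_span _ _ (e_ker e he), CoT.add_self])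
  rw [hb] at this
  exact one_ne_zero this

theorem lift_op (i : Fin 12) : ∃ h, h * z = z * h ∧ ρ h = sg (op i).1 (op i).2 ∧
    (∀ v, ρ h⁻¹ v = sg (op i).1 (op i).2 v) ∧
    (∀ a ∈ AA Q x, h * a * h⁻¹ ∈ AA Q x) ∧ ∀ a ∈ AA Q x, h⁻¹ * a * h ∈ AA Q x := by
  obtain ⟨hq, hb⟩ := op_facts i
  obtain ⟨h, hh, e⟩ := P.S.lift _ (isOm_sg hq hb)
  have hhi := P.S.comm_inv hh
  have ei : ∀ v, ρ h⁻¹ v = sg (op i).1 (op i).2 v := fun v => P.S.rho_inj hh (by
    rw [← P.S.rho_mul hh hhi, mul_inv_cancel, P.S.rho_one, e, sg_sg hq hb hb, CoT.add_self, sg_zero])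
  have keep : ∀ k, k * z = z * k → (∀ v, ρ k v = sg (op i).1 (op i).2 v) →
      ∀ m ∈ Rx Q x, k * m * k⁻¹ ∈ Rx Q x := by
    intro k hk he m hm
    have hmQ := (mem_Rx.1 hm).1
    refine (P.Rx_iff hf (P.S.conj_mem hk hmQ)).2 ?_
    rw [P.S.conj k hk m hmQ, he]
    exact op_keeps i _ ((P.Rx_iff hf hmQ).1 hm)
  refine ⟨h, hh, e, ei, fun a ha => mem_AA.2 fun m hm => ?_, fun a ha => mem_AA.2 fun m hm => ?_⟩
  · have := mem_AA.1 ha _ (keep h⁻¹ hhi ei m hm)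
    rw [inv_inv] at this
    calc m * (h * a * h⁻¹) = h * ((h⁻¹ * m * h) * a) * h⁻¹ := by group
      _ = h * (a * (h⁻¹ * m * h)) * h⁻¹ := by rw [this]
      _ = _ := by group
  · have := mem_AA.1 ha _ (keep h hh (congrFun e) m hm)
    calc m * (h⁻¹ * a * h) = h⁻¹ * ((h * m * h⁻¹) * a) * h := by group
      _ = h⁻¹ * (a * (h * m * h⁻¹)) * h := by rw [this]
      _ = _ := by group

theorem key_lift {i : Fin 12} {h a : G} (hh : h * z = z * h) (e : ρ h = sg (op i).1 (op i).2)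
    (ei : ∀ v, ρ h⁻¹ v = sg (op i).1 (op i).2 v) (ha : a ∈ AA Q x) :
    key (ρ (h * a * h⁻¹)) = act (key (ρ a)) i := by
  refine congrArg key (funext fun v => ?_)
  rw [P.S.rho_mul (P.S.comm_mul hh (P.AA_z ha)) (P.S.comm_inv hh), P.S.rho_mul hh (P.AA_z ha), ei, e,
    ← P.AA_key hf ha]

/-- Every non-singular coset contains a conjugate. -/
theorem conj_of_key : ∀ b, pf b = 1 → ∃ v ∈ AA Q x, v ≠ z ∧ (∃ l, l * z * l⁻¹ = v) ∧ key (ρ v) = b := by
  refine key_closed (S := fun b => ∃ v ∈ AA Q x, v ≠ z ∧ (∃ l, l * z * l⁻¹ = v) ∧ key (ρ v) = b)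
    (b₁ := key0) ⟨x, P.x_AA, P.ne, ⟨g, P.hx⟩, by rw [hf, key_mk]⟩ (by decide +kernel) ?_
  rintro b i ⟨v, hv, hne, ⟨l, hl⟩, rfl⟩
  obtain ⟨h, hh, e, ei, hA, -⟩ := P.lift_op hf i
  refine ⟨h * v * h⁻¹, hA v hv, fun e' => hne ?_, ⟨h * l, by rw [← hl]; group⟩,
    P.key_lift hf hh e ei hv⟩
  calc v = h⁻¹ * (h * v * h⁻¹) * h := by group
    _ = h⁻¹ * (z * h) := by rw [e', mul_assoc]
    _ = z := by rw [← hh, inv_mul_cancel_left]

theorem AA_elem : (∀ a ∈ AA Q x, ∀ b ∈ AA Q x, a * b = b * a) ∧ ∀ a ∈ AA Q x, a * a = 1 := by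
  classical
  choose y hy hne hl hk using fun i => P.conj_of_key hf (star i) (star_pf.1 i)
  have y2 : ∀ i, y i * y i = 1 := fun i => by
    obtain ⟨l, e⟩ := hl i
    exact (P.key_conj hf (hy i) e (hne i)).1.xx
  have ycomm : ∀ i j, y i * y j = y j * y i := by
    intro i j
    by_cases hij : i = j
    · rw [hij]
    obtain ⟨v, hv, vne, ⟨l, el⟩, kv⟩ := P.conj_of_key hf _ (star_pf.2 i j hij)
    have hr : v⁻¹ * (y i * y j) ∈ Rx Q x := P.AA_rep hf hv (mul_mem (hy i) (hy j))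
      (by rw [kv, P.key_mul hf (hy i) (hy j), hk, hk])
    have vv : v * v = 1 := (P.key_conj hf hv el vne).1.xx
    have hc : v⁻¹ * (y i * y j) * v = v * (v⁻¹ * (y i * y j)) := mem_AA.1 hv _ hr
    have h2 : (y i * y j) * (y i * y j) = 1 := by
      calc (y i * y j) * (y i * y j)
          = v * ((v⁻¹ * (y i * y j)) * v) * (v⁻¹ * (y i * y j)) := by group
        _ = (v * v) * ((v⁻¹ * (y i * y j)) * (v⁻¹ * (y i * y j))) := by rw [hc]; group
        _ = 1 := by rw [vv, P.Rx_sq hf hr, mul_one]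
    calc y i * y j = (y i * y j)⁻¹ := (inv_eq_of_mul_eq_one_right h2).symm
      _ = (y j)⁻¹ * (y i)⁻¹ := mul_inv_rev _ _
      _ = _ := by rw [inv_eq_of_mul_eq_one_right (y2 i), inv_eq_of_mul_eq_one_right (y2 j)]
  let T : Set G := (Rx Q x : Set G) ∪ Set.range y
  have hTA : T ⊆ AA Q x := by
    rintro t (ht | ⟨i, rfl⟩)
    · refine mem_AA.2 fun m hm => ?_
      have ht' := (mem_Rx.1 (ht : t ∈ Rx Q x))
      obtain ⟨a, b, c, d⟩ := (P.Rx_iff hf ht'.1).1 ht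
      obtain ⟨a', b', c', d'⟩ := (P.Rx_iff hf (mem_Rx.1 hm).1).1 hm
      refine (P.S.comm_iff (mem_Rx.1 hm).1 ht'.1).2 ?_
      rw [(fix_table _ a b c d).1]
      simp only [bil_add_right, bil_sm_right, a', b', c', d', mul_zero, add_zero]
    · exact hy i
  have hT : ∀ s ∈ T, ∀ t ∈ T, s * t = t * s := by
    rintro s hs t ht
    rcases hs with hs | ⟨i, rfl⟩
    · exact mem_AA.1 (hTA ht) s hs
    rcases ht with ht | ⟨j, rfl⟩
    · exact (mem_AA.1 (hy i) t ht).symm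
    · exact ycomm i j
  have hT2 : ∀ t ∈ T, t * t = 1 := by
    rintro t (ht | ⟨i, rfl⟩)
    exacts [P.Rx_sq hf ht, y2 i]
  have hcen : closure T ≤ centralizer (closure T : Set G) := by
    rw [closure_le]
    intro s hs
    rw [SetLike.mem_coe, mem_centralizer_iff]
    intro m hm
    induction hm using closure_induction with
    | mem u hu => exact hT u hu s hs
    | one => simp
    | mul u v _ _ hu hv => rw [mul_assoc, hv, ← mul_assoc, hu, mul_assoc]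
    | inv u _ hu => exact (Commute.inv_left hu).eq
  have hgen : AA Q x ≤ closure T := by
    intro a ha
    obtain ⟨a0, a1, a2, a3, a4, a5, e⟩ := star_span (key (ρ a))
    let p : Fin 6 → G := fun i => if ![a0, a1, a2, a3, a4, a5] i then y i else 1
    have hp : ∀ i, p i ∈ AA Q x ∧ p i ∈ closure T ∧
        key (ρ (p i)) = if ![a0, a1, a2, a3, a4, a5] i then star i else 0 := fun i => by
      simp only [p]
      split
      · exact ⟨hy i, subset_closure (Or.inr ⟨i, rfl⟩), hk i⟩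
      · exact ⟨one_mem _, one_mem _, P.key_one hf⟩
    have A01 := mul_mem (hp 0).1 (hp 1).1
    have A2 := mul_mem A01 (hp 2).1
    have A3 := mul_mem A2 (hp 3).1
    have A4 := mul_mem A3 (hp 4).1
    have A5 := mul_mem A4 (hp 5).1
    have hP : p 0 * p 1 * p 2 * p 3 * p 4 * p 5 ∈ closure T :=
      mul_mem (mul_mem (mul_mem (mul_mem (mul_mem (hp 0).2.1 (hp 1).2.1) (hp 2).2.1) (hp 3).2.1)
        (hp 4).2.1) (hp 5).2.1
    have hrest := P.AA_rep hf A5 ha (by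
      rw [P.key_mul hf A4 (hp 5).1, P.key_mul hf A3 (hp 4).1, P.key_mul hf A2 (hp 3).1,
        P.key_mul hf A01 (hp 2).1, P.key_mul hf (hp 0).1 (hp 1).1, (hp 0).2.2, (hp 1).2.2, (hp 2).2.2,
        (hp 3).2.2, (hp 4).2.2, (hp 5).2.2, e]
      rfl)
    have := mul_mem hP (subset_closure (Or.inl hrest) : _ ∈ closure T)
    rwa [mul_inv_cancel_left] at this
  refine ⟨fun a ha b hb => (mem_centralizer_iff.1 (hcen (hgen ha)) b (hgen hb)).symm, fun a ha => ?_⟩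
  have ha' := hgen ha
  clear ha
  induction ha' using closure_induction with
  | mem u hu => exact hT2 u hu
  | one => simp
  | mul u v hu' hv' hu hv =>
    calc u * v * (u * v) = u * (v * u) * v := by group
      _ = u * (u * v) * v := by rw [mem_centralizer_iff.1 (hcen hu') v hv']
      _ = u * u * (v * v) := by group
      _ = 1 := by rw [hu, hv, mul_one]
  | inv u _ hu => rw [← mul_inv_rev, hu, inv_one]

omit hf in
/-- The centraliser of `C_Q(x)` is abelian, for every pair. -/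
theorem AA_comm {a b : G} (ha : a ∈ AA Q x) (hb : b ∈ AA Q x) : a * b = b * a := by
  obtain ⟨π', ρ', g', x', P', ⟨h, hh, rfl⟩, e⟩ := P.exists_e3
  have hc : ∀ {c}, c ∈ AA Q x → h * c * h⁻¹ ∈ AA Q (h * x * h⁻¹) := by
    intro c hc
    refine mem_AA.2 fun m hm => ?_
    obtain ⟨hmQ, hmx⟩ := mem_Rx.1 hm
    have h1 : h⁻¹ * m * h ∈ Rx Q x := mem_Rx.2 ⟨by
      have := P.S.conj_mem (P.S.comm_inv hh) hmQ
      rwa [inv_inv] at this, by
      calc h⁻¹ * m * h * x = h⁻¹ * (m * (h * x * h⁻¹)) * h := by group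
        _ = h⁻¹ * (h * x * h⁻¹ * m) * h := by rw [hmx]
        _ = _ := by group⟩
    calc m * (h * c * h⁻¹) = h * ((h⁻¹ * m * h) * c) * h⁻¹ := by group
      _ = h * (c * (h⁻¹ * m * h)) * h⁻¹ := by rw [mem_AA.1 hc _ h1]
      _ = _ := by group
  have := (P'.AA_elem e).1 _ (hc ha) _ (hc hb)
  calc a * b = h⁻¹ * ((h * a * h⁻¹) * (h * b * h⁻¹)) * h := by group
    _ = h⁻¹ * ((h * b * h⁻¹) * (h * a * h⁻¹)) * h := by rw [this]
    _ = _ := by group

end Pr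

end Cfsg.Agent.Co1NW
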