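import Cfsg.Agent.Lib.Co1Recog.NonWeak.Setting

/-!
The elements of the two extraspecial groups centralising a commuting pair of conjugates.
-/

set_option autoImplicit false
set_option linter.style.haveILetI false
set_option linter.unusedSectionVars false
set_option maxRecDepth 20000
set_option synthInstance.maxSize 4000
set_option synthInstance.maxHeartbeats 400000

namespace Cfsg.Agent.Co1NW

open Subgroup LargeExtra CoT

local notation "F" => ZMod 2

theorem card_F : Nat.card F = 2 := by rw [Nat.card_eq_fintype_card, ZMod.card]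

theorem card_V : Nat.card V = 256 := by
  rw [Nat.card_eq_fintype_card]
  simp [Fintype.card_prod]

/-- An involutive isometry fixes at least sixteen vectors. -/
theorem sixteen_fixed {f : V → V} (h : Isom f) : 16 ≤ Nat.card {v // dd f v = 0} := by
  classical
  let R := {u // ∃ y, dd f y = u}
  let s : R → V := fun u => u.2.choose
  have hs : ∀ u : R, dd f (s u) = u.1 := fun u => u.2.choose_spec
  let g : V → R × {v // dd f v = 0} := fun v => (⟨dd f v, v, rfl⟩, ⟨v + s ⟨dd f v, v, rfl⟩, by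
    rw [h.dd_add, hs]; exact CoT.add_self _⟩)
  have hg : Function.Injective g := fun a b e => by
    have e1 : (⟨dd f a, a, rfl⟩ : R) = ⟨dd f b, b, rfl⟩ := congrArg Prod.fst e
    have e2 : a + s ⟨dd f a, a, rfl⟩ = b + s ⟨dd f b, b, rfl⟩ :=
      congrArg Subtype.val (congrArg Prod.snd e)
    rw [e1] at e2
    exact add_right_cancel e2
  have h1 := Nat.card_le_card_of_injective g hg
  rw [card_V, Nat.card_prod] at h1
  have h2 : Nat.card R ≤ Nat.card {v // dd f v = 0} := by
    refine Nat.card_le_card_of_injective (fun u => ⟨u.1, ?_⟩) fun a b e => ?_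
    · obtain ⟨y, hy⟩ := u.2
      rw [← hy, h.dd_dd]
    · exact Subtype.ext (congrArg (fun w : {v // dd f v = 0} => w.1) e)
  nlinarith

/-- A functional halves at most. -/
theorem eight_fixed {f : V → V} (h : Isom f) (μ : V) :
    8 ≤ Nat.card {v // dd f v = 0 ∧ bil v μ = 0} := by
  classical
  have h16 := sixteen_fixed h
  by_cases hz : ∀ v, dd f v = 0 → bil v μ = 0
  · have := Nat.card_le_card_of_injective
      (fun v : {v // dd f v = 0} => (⟨v.1, v.2, hz _ v.2⟩ : {v // dd f v = 0 ∧ bil v μ = 0}))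
      fun a b e => Subtype.ext (congrArg (fun w : {v // dd f v = 0 ∧ bil v μ = 0} => w.1) e)
    omega
  push Not at hz
  obtain ⟨v0, hv0, hv0'⟩ := hz
  have h0' : bil v0 μ = 1 := (F_cases _).resolve_left hv0'
  let g : {v // dd f v = 0} → F × {v // dd f v = 0 ∧ bil v μ = 0} := fun v =>
    (bil v.1 μ, ⟨v.1 + sm (bil v.1 μ) v0, by
      rw [h.dd_add, v.2, h.dd_sm, hv0, zero_add, sm_smul, smul_zero], by
      rw [bil_add_left, bil_sm_left, h0', mul_one, F_add_self]⟩)
  have hg : Function.Injective g := fun a b e => by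
    have e1 : bil a.1 μ = bil b.1 μ := congrArg Prod.fst e
    have e2 : a.1 + sm (bil a.1 μ) v0 = b.1 + sm (bil b.1 μ) v0 :=
      congrArg (fun w : {v // dd f v = 0 ∧ bil v μ = 0} => w.1) (congrArg Prod.snd e)
    rw [e1] at e2
    exact Subtype.ext (add_right_cancel e2)
  have h1 := Nat.card_le_card_of_injective g hg
  rw [Nat.card_prod, card_F] at h1
  omega

/-- An additive map preserving the form. -/
structure IsIso (k : V → V) : Prop where
  add : ∀ u v, k (u + v) = k u + k v
  qq : ∀ v, q (k v) = q v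

theorem IsIso.zero {k : V → V} (h : IsIso k) : k 0 = 0 := by
  have := h.add 0 0
  rw [add_zero] at this
  exact left_eq_add.1 this

theorem IsIso.sm {k : V → V} (h : IsIso k) (c : F) (v : V) : k (CoT.sm c v) = CoT.sm c (k v) := by
  rcases F_cases c with rfl | rfl
  · rw [sm_zero, sm_zero, h.zero]
  · rw [sm_one, sm_one]

theorem IsIso.bil_eq {k : V → V} (h : IsIso k) (u v : V) : bil (k u) (k v) = bil u v := by
  have h7 := h.qq (u + v)
  rw [h.add, q_add, h.qq, h.qq, q_add] at h7
  exact add_left_cancel h7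

variable {G : Type*} [Group G] [Finite G] {z : G} {Q : Subgroup G} {π : G → V} {ρ : G → V → V}

/-- The elements of `Q'` commuting with `z`. -/
abbrev KK (z : G) (Q : Subgroup G) (g : G) := {k : G // k ∈ cj g Q ∧ k * z = z * k}

namespace Pr

variable {g x : G} (P : Pr z Q π ρ g x)
include P

theorem card_cent : 16 ≤ Nat.card {m : G // m ∈ Q ∧ m * x = x * m} := by
  obtain ⟨μ, M⟩ := P.exists_mu
  have h8 := eight_fixed P.isom μ
  choose m hm hπ hc using fun v : {v // dd (ρ x) v = 0 ∧ bil v μ = 0} => P.exists_fixed M v.2.1 v.2.2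
  have hcz : ∀ c : F, zb z c * x = x * zb z c := fun c => (zb_comm P.comm c).symm
  have hzQ : ∀ c : F, zb z c ∈ Q := fun c => by
    rcases F_cases c with rfl | rfl
    · rw [zb_zero]; exact one_mem _
    · rw [zb_one]; exact P.S.loc.mem
  let f : {v // dd (ρ x) v = 0 ∧ bil v μ = 0} × F → {m : G // m ∈ Q ∧ m * x = x * m} :=
    fun p => ⟨m p.1 * zb z p.2, mul_mem (hm _) (hzQ _), by
      rw [mul_assoc, hcz, ← mul_assoc, hc, mul_assoc]⟩
  have hf : Function.Injective f := fun a b e => by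
    have e1 : m a.1 * zb z a.2 = m b.1 * zb z b.2 := congrArg Subtype.val e
    have hz0 : ∀ c : F, π (zb z c) = 0 := fun c => by
      rcases F_cases c with rfl | rfl
      · rw [zb_zero]; exact P.S.pi_one
      · rw [zb_one]; exact P.S.pi_z
    have e2 := congrArg π e1
    rw [P.S.pi_mul _ (hm _) _ (hzQ _), P.S.pi_mul _ (hm _) _ (hzQ _), hz0, hz0, add_zero, add_zero,
      hπ, hπ] at e2
    have e3 : a.1 = b.1 := Subtype.ext e2
    rw [e3] at e1
    exact Prod.ext e3 (zb_inj P.S.loc.ne_one (mul_left_cancel e1))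
  have := Nat.card_le_card_of_injective f hf
  rw [Nat.card_prod, card_F] at this
  omega

theorem card_KK : 16 ≤ Nat.card (KK z Q g) := P.swap.card_cent

theorem KK_om (k : KK z Q g) : IsOm (ρ k) := P.S.om _ k.2.2

theorem KK_comm_f (k : KK z Q g) (v : V) : ρ k (ρ x v) = ρ x (ρ k v) := by
  rw [← P.S.rho_mul k.2.2 P.comm, ← P.S.rho_mul P.comm k.2.2, P.comm' k.2.1]

theorem KK_inter (k : KK z Q g) {w : G} (hw : w ∈ Q) (hw' : w ∈ cj g Q) :
    (k : G) * w = w * k :=
  P.swap.inter_comm_left hw' (by rw [P.cj_back]; exact hw) k.2.1 k.2.2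

theorem KK_fix_inter (k : KK z Q g) {w : G} (hw : w ∈ Q) (hw' : w ∈ cj g Q) :
    ρ k (π w) = π w := by
  rw [← P.S.conj _ k.2.2 w hw, P.KK_inter k hw hw', mul_inv_cancel_right]

variable {μ : V} (M : Mu z Q π ρ x μ)
include M

/-- Elements of `Q'` centralising `z` act trivially on `C_Q(x)` modulo `Q ∩ Q'`. -/
theorem KK_fix (k : KK z Q g) {v : V} (h : dd (ρ x) v = 0) (h' : bil v μ = 0) :
    ∃ w, w ∈ Q ∧ w ∈ cj g Q ∧ dd (ρ k) v = π w := by
  obtain ⟨m, hm, rfl, hmx⟩ := P.exists_fixed M h h'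
  have h1 := P.S.conj_mem k.2.2 hm
  refine ⟨(k : G) * m * (k : G)⁻¹ * m⁻¹, mul_mem h1 (inv_mem hm), ?_, ?_⟩
  · have h2 : m * (k : G)⁻¹ * m⁻¹ ∈ cj g Q :=
      LargeExtra.conj_mem (P.loc'.norm (mem_centralizer_one.2 hmx)) (inv_mem k.2.1)
    have := mul_mem k.2.1 h2
    simpa [mul_assoc] using this
  · rw [P.S.pi_mul _ h1 _ (inv_mem hm), P.S.pi_inv hm, P.S.conj _ k.2.2 m hm]
    rfl

/-- If `Q ∩ Q'` is trivial the action is faithful and fixes `C_Q(x)`. -/
theorem KK_faithful (hW : ∀ w ∈ Q, w ∈ cj g Q → w = 1) :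
    Function.Injective (fun k : KK z Q g => ρ k) ∧
      ∀ (k : KK z Q g) (v : V), dd (ρ x) v = 0 → bil v μ = 0 → ρ k v = v := by
  refine ⟨fun a b e => ?_, fun k v h h' => ?_⟩
  · have hb := P.S.comm_inv b.2.2
    have hQ : (b : G)⁻¹ * a ∈ Q := (P.S.ker _ (P.S.comm_mul hb a.2.2)).1 fun v => by
      rw [P.S.rho_mul hb a.2.2, show ρ (a : G) = ρ (b : G) from e, ← P.S.rho_mul hb b.2.2,
        inv_mul_cancel, P.S.rho_one]
    exact Subtype.ext (inv_mul_eq_one.1 (hW _ hQ (mul_mem (inv_mem b.2.1) a.2.1))).symm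
  · obtain ⟨w, hw, hw', e⟩ := P.KK_fix M k h h'
    rw [hW w hw hw', P.S.pi_one] at e
    exact eq_of_add e

/-- A bound on the isometries fixing `C_Q(x)`; transvections double the count. -/
theorem false_of_count (hW : ∀ w ∈ Q, w ∈ cj g Q → w = 1) {β : Type*} (S : Finset β) (key : (V → V) → β)
    (mem : ∀ k : V → V, IsIso k → (∀ v, dd (ρ x) v = 0 → bil v μ = 0 → k v = v) → key k ∈ S)
    (inj : ∀ k k' : V → V, IsIso k → IsIso k' → (∀ v, dd (ρ x) v = 0 → bil v μ = 0 → k v = v) →
      (∀ v, dd (ρ x) v = 0 → bil v μ = 0 → k' v = v) → key k = key k' → k = k')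
    (hS : S.card < 16 ∨ (q μ = 1 ∧ S.card < 32)) : False := by
  obtain ⟨hi, hfix⟩ := P.KK_faithful M hW
  have hiso : ∀ k : KK z Q g, IsIso (ρ k) := fun k => ⟨(P.KK_om k).add, (P.KK_om k).q_eq⟩
  have h16 := P.card_KK
  rcases hS with hS | ⟨hμ, hS⟩
  · have := Nat.card_le_card_of_injective (fun k : KK z Q g => (⟨key (ρ k), mem _ (hiso k) (hfix k)⟩ : S))
      fun a b e => hi (inj _ _ (hiso a) (hiso b) (hfix a) (hfix b) (congrArg Subtype.val e))
    rw [Nat.card_eq_fintype_card (α := S), Fintype.card_coe] at this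
    omega
  let k2 : KK z Q g × Bool → V → V := fun p => if p.2 then fun v => tr μ (ρ p.1 v) else ρ p.1
  have h2iso : ∀ p, IsIso (k2 p) := by
    rintro ⟨k, _ | _⟩
    · exact hiso k
    · exact ⟨fun u v => by simp only [k2, if_true, (P.KK_om k).add, tr_add],
        fun v => by simp only [k2, if_true, tr_q _ hμ, (P.KK_om k).q_eq]⟩
  have h2fix : ∀ p v, dd (ρ x) v = 0 → bil v μ = 0 → k2 p v = v := by
    rintro ⟨k, _ | _⟩ v h h'
    · exact hfix k v h h'
    · simp only [k2, if_true, hfix k v h h', tr_fix h']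
  have not2 : ∀ k k' : KK z Q g, (fun v => tr μ (ρ k v)) ≠ ρ k' := by
    intro k k' e
    obtain ⟨i, hi', -, hl⟩ := (P.KK_om k).inv
    refine not_isOm_tr hμ (((P.KK_om k').comp hi').congr fun v => ?_)
    show ρ k' (i v) = tr μ v
    rw [← congrFun e (i v), hl]
  have h2 : Function.Injective k2 := by
    rintro ⟨k, _ | _⟩ ⟨k', _ | _⟩ e <;> simp only [k2, if_true, Bool.false_eq_true, if_false] at e
    · exact Prod.ext (hi e) rfl
    · exact absurd e.symm (not2 k' k)
    · exact absurd e (not2 k k')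
    · refine Prod.ext (hi (funext fun v => ?_)) rfl
      show ρ k v = ρ k' v
      rw [← tr_tr (a := μ) (ρ k v), congrFun e v, tr_tr]
  have := Nat.card_le_card_of_injective (fun p => (⟨key (k2 p), mem _ (h2iso p) (h2fix p)⟩ : S))
    fun a b e => h2 (inj _ _ (h2iso a) (h2iso b) (h2fix a) (h2fix b) (congrArg Subtype.val e))
  rw [Nat.card_eq_fintype_card (α := S), Fintype.card_coe, Nat.card_prod,
    Nat.card_eq_fintype_card (α := Bool), Fintype.card_bool] at this
  omega

end Pr

end Cfsg.Agent.Co1NW
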