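import Cfsg.Agent.Lib.Co1Recog.NonWeak.Reps

/-!
Conjugates with a four-dimensional commutator space: the two extraspecial groups meet trivially.
-/

set_option autoImplicit false
set_option linter.style.haveILetI false
set_option linter.unusedSectionVars false
set_option maxRecDepth 20000
set_option maxHeartbeats 1000000
set_option synthInstance.maxSize 4000
set_option synthInstance.maxHeartbeats 400000

namespace Cfsg.Agent.Co1NW

open Subgroup LargeExtra CoT

local notation "F" => ZMod 2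

/-- The fixed vectors are differences. -/
def Four (f : V → V) : Prop := ∀ v, dd f v = 0 → ∃ y, dd f y = v

theorem Four.isotropic {f : V → V} (h : Four f) (hf : Isom f) {u v : V} (hu : dd f u = 0)
    (hv : dd f v = 0) : bil u v = 0 := by
  obtain ⟨y, rfl⟩ := h v hv
  rw [← hf.dd_bil, hu, bil_zero_left]

theorem Four.transfer {f f' k : V → V} (h : Four f) (hk : IsOm k) (he : ∀ v, f' (k v) = k (f v)) :
    Four f' := by
  obtain ⟨k', -, hl, hr⟩ := hk.inv
  have hd : ∀ v, dd f' (k v) = k (dd f v) := fun v => by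
    simp only [dd, he, hk.add]
  intro v hv
  rw [← hr v, hd] at hv
  have h0 : k 0 = 0 := by
    have := hk.add 0 0
    rw [add_zero] at this
    exact left_eq_add.1 this
  obtain ⟨y, hy⟩ := h (k' v) (hk.inj (hv.trans h0.symm))
  exact ⟨k y, by rw [hd, hy, hr]⟩

theorem four_nf_table : ∀ v : V,
    (nf e3 v = v → ∃ a b c d : F, dd (nf e3) (sm a f0 + sm b f1 + sm c f2 + sm d f3) = v) ∧
    (nf f3 v = v → ∃ a b c d : F, dd (nf f3) (sm a f0 + sm b f1 + sm c f2 + sm d e3) = v) ∧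
    (nf (e3 + f3) v = v → ∃ a b c d : F,
      dd (nf (e3 + f3)) (sm a f0 + sm b f1 + sm c f2 + sm d e3) = v) := by
  decide +kernel

theorem four_nf {w : V} (hw : w ∈ [e3, f3, e3 + f3]) : Four (nf w) := by
  intro v hv
  obtain ⟨h1, h2, h3⟩ := four_nf_table v
  have hv' := CoT.eq_of_add hv
  rcases List.mem_cons.1 hw with rfl | hw
  · obtain ⟨a, b, c, d, e⟩ := h1 hv'; exact ⟨_, e⟩
  rcases List.mem_cons.1 hw with rfl | hw
  · obtain ⟨a, b, c, d, e⟩ := h2 hv'; exact ⟨_, e⟩
  · rw [List.mem_singleton.1 hw] at hv' ⊢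
    obtain ⟨a, b, c, d, e⟩ := h3 hv'; exact ⟨_, e⟩

variable {G : Type*} [Group G] [Finite G] {z : G} {Q : Subgroup G} {π : G → V} {ρ : G → V → V}

namespace Pr

variable {g x : G} (P : Pr z Q π ρ g x) (h4 : Four (ρ x))
include P h4

theorem four_inter : ∀ w ∈ Q, w ∈ cj g Q → w = 1 := by
  obtain ⟨μ, M⟩ := P.exists_mu
  intro w hw hw'
  obtain ⟨y, hy⟩ := h4 _ (P.inter_fix hw hw' M).1
  by_cases hzx : ∃ l, l * z * l⁻¹ = z * x
  · exact P.inter_range hw hw' hzx hy
  have hφ : ∀ v, dd (ρ x) v = 0 → bil v μ = 0 := fun v hv =>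
    (F_cases _).resolve_right fun c => hzx (P.zx_of_mu M hv c)
  have hf := P.isom
  have hq : ∀ u, q (dd (ρ x) u) = 0 := fun u => by rw [← M.dq, hφ _ (hf.dd_dd u)]
  have hself : ∀ u, bil u (dd (ρ x) u) = 0 := fun u => by rw [← hf.dd_q, hq]
  -- the commutator with a preimage
  have one_of : ∀ {w : G}, w ∈ Q → w ∈ cj g Q → ∀ {m : G}, m ∈ Q →
      dd (ρ x) (π m) = π w → x * m * x⁻¹ * m⁻¹ = w → w = 1 := by
    intro w hw hw' m hm hd e
    have hc : m * w = w * m := (P.S.comm_iff hm hw).2 (by rw [← hd]; exact hself _)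
    obtain ⟨l, hl⟩ := P.conj_x m⁻¹
    have hyx : m⁻¹ * x * m = w * x := by
      calc m⁻¹ * x * m = m⁻¹ * (x * m * x⁻¹ * m⁻¹) * m * x := by group
        _ = m⁻¹ * (w * m) * x := by rw [e, mul_assoc m⁻¹ w m]
        _ = _ := by rw [← hc, inv_mul_cancel_left]
    have h3 := P.wk' (k := l) (by rw [hl, inv_inv, hyx]; exact mul_mem hw' P.loc'.mem)
    rw [hl, inv_inv, hyx] at h3
    exact mul_eq_right.1 h3
  have pairs : ∀ {a b : G}, a ∈ Q → a ∈ cj g Q → b ∈ Q → b ∈ cj g Q → a ≠ 1 → b ≠ 1 → a ≠ b →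
      ∀ {s : V}, dd (ρ x) s = π a → bil s (π b) = 1 := by
    intro a b ha ha' hb hb' a1 b1 ab s hs
    refine (F_cases _).resolve_left fun h0 => ?_
    obtain ⟨t, ht⟩ := h4 _ (P.inter_fix hb hb' M).1
    obtain ⟨m, hm, rfl⟩ := P.S.pi_surj s
    obtain ⟨n, hn, rfl⟩ := P.S.pi_surj t
    obtain ⟨m1, m2⟩ := P.mem_conj hm
    obtain ⟨n1, n2⟩ := P.mem_conj hn
    have ea : x * m * x⁻¹ * m⁻¹ = a * z := (P.S.eq_of_pi m1 ha (m2.trans hs)).resolve_left
      fun e => a1 (one_of ha ha' hm hs e)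
    have eb : x * n * x⁻¹ * n⁻¹ = b * z := (P.S.eq_of_pi n1 hb (n2.trans ht)).resolve_left
      fun e => b1 (one_of hb hb' hn ht e)
    have hc : m * b = b * m := (P.S.comm_iff hm hb).2 h0
    have key : x * (m * n) * x⁻¹ * (m * n)⁻¹ = a * b := by
      calc x * (m * n) * x⁻¹ * (m * n)⁻¹
          = (x * m * x⁻¹ * m⁻¹) * (m * (x * n * x⁻¹ * n⁻¹) * m⁻¹) := by group
        _ = a * z * (m * b * (z * m⁻¹)) := by rw [ea, eb]; group
        _ = a * z * (b * m * (m⁻¹ * z)) := by rw [← P.S.Qz (inv_mem hm), hc]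
        _ = a * (z * b) * z := by group
        _ = _ := by rw [← P.S.Qz hb, mul_assoc, mul_assoc, P.zz, mul_one]
    have hab := one_of (mul_mem ha hb) (mul_mem ha' hb') (mul_mem hm hn) (by
      rw [P.S.pi_mul _ hm _ hn, P.S.pi_mul _ ha _ hb, hf.dd_add, hs, ht]) key
    exact ab (by rw [eq_inv_of_mul_eq_one_left hab]; exact inv_eq_of_mul_eq_one_right (P.inter_sq hb hb'))
  -- transvections move elements of the intersection
  have moves' : ∀ s, bil (π w) s = 1 → ∃ w₂, w₂ ∈ Q ∧ w₂ ∈ cj g Q ∧ π w₂ = dd (ρ x) s := by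
    intro s hs
    set v := dd (ρ x) s with hv
    have hsv : bil s v = 0 := hself s
    have hk : IsOm (sg v s) := isOm_sg (hq s) hsv
    have hxv : ρ x v = v := hf.fix_dd s
    rcases P.lift M hk (fun u => by
      rw [(P.S.om x P.comm).map_sg, hxv, hf.f_eq s, ← hv]
      exact sg_congr (hq s) (by rw [bil_add_left, hsv, CoT.bil_self, add_zero])
        (Or.inr (CoT.add_cancel s v).symm) _) (fun u hu => by
      rw [sg_perp (h4.isotropic hf hu (hf.dd_dd s)), bil_add_left, bil_sm_left,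
        hφ v (hf.dd_dd s), mul_zero, add_zero]) with ⟨c, hcz, hcx, hc⟩ | ⟨h, -⟩
    · obtain ⟨h1, h2⟩ := P.inter_conj hw hw' hcz hcx
      refine ⟨c * w * c⁻¹ * w, mul_mem h1 hw, mul_mem h2 hw', ?_⟩
      rw [P.S.pi_mul _ h1 _ hw, P.S.conj c hcz w hw, hc,
        sg_perp (h4.isotropic hf (P.inter_fix hw hw' M).1 (hf.dd_dd s)), hs, sm_one, add_right_comm,
        CoT.add_self, zero_add]
    · exact absurd h hzx
  by_contra hw1
  have hne : π w ≠ 0 := fun h => hw1 (P.inter_eq_one hw hw' h)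
  obtain ⟨s, hs⟩ := exists_bil_one hne
  obtain ⟨a, ha, ha', hsa⟩ := moves' s hs
  set v := dd (ρ x) s with hv
  have hyv : bil y v = 1 := by rw [hv, ← hf.dd_bil, hy]; exact hs
  have hyw : bil y (π w) = 0 := by rw [← hy]; exact hself y
  -- a vector orthogonal to both, moved by `x`
  obtain ⟨e, he1, he2, he3⟩ : ∃ e, bil (π w) e = 0 ∧ bil v e = 0 ∧ dd (ρ x) e ≠ 0 := by
    by_contra hcon
    push Not at hcon
    have hd : ∀ u, dd (ρ x) u = sm (bil (π w) u) v + sm (bil v u) (π w) := by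
      intro u
      have h := hcon (u + sm (bil (π w) u) s + sm (bil v u) y) (by
        rw [bil_add_right, bil_add_right, bil_sm_right, bil_sm_right, hs, CoT.bil_comm (π w) y, hyw,
          mul_one, mul_zero, add_zero, F_add_self]) (by
        rw [bil_add_right, bil_add_right, bil_sm_right, bil_sm_right, CoT.bil_comm v y, hyv,
          CoT.bil_comm v s, hself s, mul_one, mul_zero, add_zero, F_add_self])
      rw [hf.dd_add, hf.dd_add, hf.dd_sm, hf.dd_sm, hy, add_assoc] at h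
      exact CoT.eq_of_add h
    have h16 := sixteen_fixed hf
    choose r hr using fun u : {u // dd (ρ x) u = 0} => h4 u.1 u.2
    have := Nat.card_le_card_of_injective (fun u => (bil (π w) (r u), bil v (r u))) fun u u' e => by
      refine Subtype.ext ?_
      simp only [Prod.mk.injEq] at e
      rw [← hr u, ← hr u', hd (r u), hd (r u'), e.1, e.2]
    rw [Nat.card_prod, card_F] at this
    omega
  have hs' : bil (π w) (s + e) = 1 := by rw [bil_add_right, hs, he1, add_zero]
  obtain ⟨b, hb, hb', hsb⟩ := moves' _ hs'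
  rw [hf.dd_add] at hsb
  have hne0 : ∀ {c : G}, c ∈ Q → c ∈ cj g Q → ∀ {t : V}, bil (π w) t = 1 → π c = dd (ρ x) t → c ≠ 1 := by
    intro c hc hc' t ht e e1
    rw [e1, P.S.pi_one] at e
    rw [h4.isotropic hf (P.inter_fix hw hw' M).1 e.symm] at ht
    exact zero_ne_one ht
  have := pairs hb hb' ha ha' (hne0 hb hb' hs' (by rw [hsb, hf.dd_add])) (hne0 ha ha' hs hsa)
    (fun e' => he3 (by
      rw [e', hsa] at hsb
      exact left_eq_add.1 hsb)) (s := s + e) (by rw [hf.dd_add, hsb])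
  rw [hsa, bil_add_left, hself, zero_add, CoT.bil_comm, he2] at this
  exact zero_ne_one this

end Pr

end Cfsg.Agent.Co1NW
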