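import Cfsg.Agent.Lib.Co1Recog.NonWeak.Abelian
import Mathlib.GroupTheory.PGroup
import Mathlib.GroupTheory.Perm.Cycle.Type

/-!
No commuting pair exists: the conjugates of `z` in an abelian group of order at most `2 ^ 15` would
form an orbit of length 449.
-/

set_option autoImplicit false
set_option linter.style.haveILetI false
set_option linter.unusedSectionVars false
set_option maxRecDepth 20000
set_option maxHeartbeats 1000000
set_option synthInstance.maxSize 4000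
set_option synthInstance.maxHeartbeats 400000

namespace Cfsg.Agent.Co1NW

open Subgroup LargeExtra CoT

local notation "F" => ZMod 2

/-- Coordinates on the four-space. -/
def cu4 (v : V) : F × F × F × F := (bil v f0, bil v f1, bil v f2, bil v f3)

/-- The vector with given coordinates. -/
def uv (c : F × F × F × F) : V := sm c.1 e0 + sm c.2.1 e1 + sm c.2.2.1 e2 + sm c.2.2.2 e3

theorem uv_facts : ∀ c : F × F × F × F, cu4 (uv c) = c ∧
    bil (uv c) e0 = 0 ∧ bil (uv c) e1 = 0 ∧ bil (uv c) e2 = 0 ∧ bil (uv c) e3 = 0 := by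
  decide +kernel

theorem pow_two_449 : ∀ k < 16, ∀ a ≤ k, 2 ^ k % 449 = 2 ^ a % 449 → a = k := by decide +kernel

theorem card_K6 : Nat.card K6 = 64 := by simp only [Nat.card_prod, card_F]

theorem prime_449 : Nat.Prime 449 := by norm_num

/-- An automorphism of order 449 of a group of order `2 ^ k`, with `k < 16`, does not exist. -/
theorem no_449 {A : Type*} [Group A] [Finite A] (hA : IsPGroup 2 A) (hcard : Nat.card A ≤ 2 ^ 15)
    (h : MulAut A) : orderOf h ≠ 449 := by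
  intro hh
  haveI := Fact.mk prime_449
  have hP : IsPGroup 449 (zpowers h) := IsPGroup.of_card (n := 1) (by rw [Nat.card_zpowers, hh, pow_one])
  have hmod := hP.card_modEq_card_fixedPoints A
  let Fx : Subgroup A :=
    { carrier := {a | h a = a}
      mul_mem' := fun {a b} ha hb => by
        show h (a * b) = a * b
        rw [map_mul]; exact congrArg₂ _ ha hb
      one_mem' := map_one h
      inv_mem' := fun {a} ha => by
        show h a⁻¹ = a⁻¹
        rw [map_inv]; exact congrArg _ ha }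
  have he : MulAction.fixedPoints (zpowers h) A = (Fx : Set A) := by
    ext a
    refine ⟨fun ha => ha ⟨h, mem_zpowers h⟩, fun (ha : h a = a) => ?_⟩
    rintro ⟨k, hk⟩
    obtain ⟨n, rfl⟩ := mem_zpowers_iff.1 hk
    have : (h : MulAut A) ∈ MulAction.stabilizer (MulAut A) a := ha
    exact (MulAction.stabilizer (MulAut A) a).zpow_mem this n
  haveI := Fact.mk Nat.prime_two
  obtain ⟨k, hk⟩ := IsPGroup.iff_card.1 hA
  obtain ⟨a, ha⟩ := IsPGroup.iff_card.1 (hA.to_subgroup Fx)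
  rw [he, hk, show Nat.card ↥(Fx : Set A) = 2 ^ a from ha] at hmod
  have hk15 : k < 16 := Nat.lt_succ_of_le ((Nat.pow_le_pow_iff_right Nat.one_lt_two).1 (hk ▸ hcard))
  have hak : a ≤ k := (Nat.pow_le_pow_iff_right Nat.one_lt_two).1 (by
    rw [← hk, ← ha]
    exact Nat.card_le_card_of_injective _ Subtype.val_injective)
  have e := pow_two_449 k hk15 a hak hmod
  have htop : Fx = ⊤ := Subgroup.eq_top_of_card_eq _ (by rw [ha, hk, e])
  have h1 : h = 1 := MulEquiv.ext fun b => by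
    have : b ∈ Fx := htop ▸ Subgroup.mem_top b
    exact this
  rw [h1, orderOf_one] at hh
  exact absurd hh (by norm_num)

variable {G : Type*} [Group G] [Finite G] {z : G} {Q : Subgroup G} {π : G → V} {ρ : G → V → V}

namespace Pr

variable {g x : G} (P : Pr z Q π ρ g x)
include P

/-- The two centralisers of the pair coincide. -/
theorem AA_swap : AA Q x = AA (cj g Q) z := by
  have hRR : ∀ d ∈ Rx (cj g Q) z, ∀ m ∈ Rx Q x, d * m = m * d := by
    intro d hd m hm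
    obtain ⟨hd, hdz⟩ := mem_Rx.1 hd
    obtain ⟨hm, hmx⟩ := mem_Rx.1 hm
    have h1 := mul_mem (P.S.conj_mem hdz hm) (inv_mem hm)
    have h2 : d * m * d⁻¹ * m⁻¹ ∈ cj g Q := by
      have h3 : m * d⁻¹ * m⁻¹ ∈ cj g Q :=
        LargeExtra.conj_mem (P.loc'.norm (mem_centralizer_one.2 hmx)) (inv_mem hd)
      have := mul_mem hd h3
      simpa [mul_assoc] using this
    exact mul_inv_eq_iff_eq_mul.1 (mul_inv_eq_one.1 (P.inter _ h1 h2))
  have hR' : ∀ d ∈ Rx (cj g Q) z, d ∈ AA Q x := fun d hd =>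
    mem_AA.2 fun m hm => (hRR d hd m hm).symm
  have hR : ∀ m ∈ Rx Q x, m ∈ AA (cj g Q) z := fun m hm =>
    mem_AA.2 fun d hd => hRR d hd m hm
  exact le_antisymm (fun a ha => mem_AA.2 fun d hd => P.AA_comm (hR' d hd) ha)
    fun a ha => mem_AA.2 fun m hm => P.swap.AA_comm (hR m hm) ha

theorem no_pair_e3 (hf : ρ x = mka key0) : False := by
  classical
  obtain ⟨hcomm, helem⟩ := P.AA_elem hf
  set A := AA Q x with hA
  set N : Subgroup G := normalizer (A : Set G) with hN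
  have memN : ∀ n, (∀ a ∈ A, n * a * n⁻¹ ∈ A) → (∀ a ∈ A, n⁻¹ * a * n ∈ A) → n ∈ N := by
    intro n h1 h2
    refine mem_normalizer_iff.2 fun a => ⟨h1 a, fun h => ?_⟩
    have := h2 _ h
    rwa [show n⁻¹ * (n * a * n⁻¹) * n = a by group] at this
  have hQN : ∀ {k}, k ∈ Q → k ∈ N := by
    have one : ∀ {k}, k ∈ Q → ∀ a ∈ A, k * a * k⁻¹ ∈ A := by
      intro k hk a ha
      refine mem_AA.2 fun m hm => ?_
      have h1 : k⁻¹ * m * k ∈ Rx Q x := by
        have h0 := P.S.loc.conj_cases (inv_mem hk) (mem_Rx.1 hm).1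
        rw [inv_inv] at h0
        rcases h0 with e | e <;> rw [e]
        exacts [hm, mul_mem hm P.z_Rx]
      calc m * (k * a * k⁻¹) = k * ((k⁻¹ * m * k) * a) * k⁻¹ := by group
        _ = k * (a * (k⁻¹ * m * k)) * k⁻¹ := by rw [mem_AA.1 ha _ h1]
        _ = _ := by group
    intro k hk
    refine memN k (one hk) fun a ha => ?_
    have := one (inv_mem hk) a ha
    rwa [inv_inv] at this
  have hzA : z ∈ A := mem_AA.2 fun m hm => P.S.Qz (mem_Rx.1 hm).1
  -- an element of `Q'` moves `z`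
  obtain ⟨n₀, hn₀, hmov⟩ : ∃ n ∈ cj g Q, n * z * n⁻¹ ≠ z := by
    by_contra hcon
    push Not at hcon
    obtain ⟨μ', M'⟩ := P.swap.exists_mu
    obtain ⟨v, hv⟩ := P.swap.moves
    obtain ⟨n, hn, rfl⟩ := P.swap.S.pi_surj v
    exact hv (CoT.eq_of_add (P.swap.fixed M' hn (mul_inv_eq_iff_eq_mul.1 (hcon n hn))).1)
  have hn₀N : n₀ ∈ N := by
    have one : ∀ {k}, k ∈ cj g Q → ∀ a ∈ A, k * a * k⁻¹ ∈ A := by
      intro k hk a ha
      rw [hA, P.AA_swap] at ha ⊢
      refine mem_AA.2 fun m hm => ?_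
      have h1 : k⁻¹ * m * k ∈ Rx (cj g Q) z := by
        have h0 := P.loc'.conj_cases (inv_mem hk) (mem_Rx.1 hm).1
        rw [inv_inv] at h0
        rcases h0 with e | e <;> rw [e]
        exacts [hm, mul_mem hm P.swap.z_Rx]
      calc m * (k * a * k⁻¹) = k * ((k⁻¹ * m * k) * a) * k⁻¹ := by group
        _ = k * (a * (k⁻¹ * m * k)) * k⁻¹ := by rw [mem_AA.1 ha _ h1]
        _ = _ := by group
    refine memN n₀ (one hn₀) fun a ha => ?_
    have := one (inv_mem hn₀) a ha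
    rwa [inv_inv] at this
  let O : Set G := {v | ∃ n ∈ N, n * z * n⁻¹ = v}
  have hOA : ∀ {v}, v ∈ O → v ∈ A := by
    rintro v ⟨n, hn, rfl⟩
    exact (mem_normalizer_iff.1 hn z).1 hzA
  have hOmul : ∀ {v}, v ∈ O → ∀ {n}, n ∈ N → n * v * n⁻¹ ∈ O := by
    rintro v ⟨m, hm, rfl⟩ n hn
    exact ⟨n * m, mul_mem hn hm, by group⟩
  have hOne : ∀ {v}, v ∈ O → ∀ {n : G}, n * z = z * n → v ≠ z → n * v * n⁻¹ ≠ z := by
    intro v _ n hn hne e
    apply hne
    calc v = n⁻¹ * (n * v * n⁻¹) * n := by group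
      _ = n⁻¹ * (z * n) := by rw [e, mul_assoc]
      _ = z := by rw [← hn, inv_mul_cancel_left]
  -- every non-singular coset
  have hkey : ∀ b, pf b = 1 → ∃ v ∈ O, v ≠ z ∧ key (ρ v) = b := by
    have h0 : n₀ * z * n₀⁻¹ ∈ O := ⟨n₀, hn₀N, rfl⟩
    refine key_closed (S := fun b => ∃ v ∈ O, v ≠ z ∧ key (ρ v) = b)
      (b₁ := key (ρ (n₀ * z * n₀⁻¹))) ⟨_, h0, hmov, rfl⟩ (P.key_conj hf (hOA h0) rfl hmov).2 ?_
    rintro b i ⟨v, hv, hne, rfl⟩
    obtain ⟨h, hh, e, ei, hA1, hA2⟩ := P.lift_op hf i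
    exact ⟨h * v * h⁻¹, hOmul hv (memN h hA1 hA2), hOne hv hh hne, P.key_lift hf hh e ei (hOA hv)⟩
  choose y hyO hyne hyk using hkey
  have pr : ∀ {v}, v ∈ O → v ≠ z → ∃ l, Pr z Q π ρ l v ∧ pf (key (ρ v)) = 1 := by
    intro v hv hne
    obtain ⟨n, -, e⟩ := id hv
    exact ⟨n, P.key_conj hf (hOA hv) e hne⟩
  have pfk : ∀ v : {v : O // v.1 ≠ z}, pf (key (ρ v.1.1)) = 1 := fun v => (pr v.1.2 v.2).choose_spec.2
  let f : {v : O // v.1 ≠ z} → {b : K6 // pf b = 1} × (F × F × F × F) := fun v =>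
    (⟨key (ρ v.1.1), pfk v⟩, cu4 (π (y _ (pfk v) * v.1.1)))
  have hrest : ∀ {b} (hb : pf b = 1) {v}, v ∈ O → key (ρ v) = b → y b hb * v ∈ Rx Q x := by
    intro b hb v hv hk
    have := P.AA_rep hf (hOA (hyO b hb)) (hOA hv) (by rw [hyk, hk])
    rwa [inv_eq_of_mul_eq_one_right (helem _ (hOA (hyO b hb)))] at this
  have finj : Function.Injective f := by
    rintro ⟨⟨v, hv⟩, hne⟩ ⟨⟨v', hv'⟩, hne'⟩ e
    obtain ⟨e1', e2'⟩ := Prod.ext_iff.1 e
    have ek : key (ρ v) = key (ρ v') := congrArg Subtype.val e1'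
    have e2'' : cu4 (π (y (key (ρ v)) (pfk ⟨⟨v, hv⟩, hne⟩) * v)) =
        cu4 (π (y (key (ρ v)) (pfk ⟨⟨v, hv⟩, hne⟩) * v')) := by
      refine e2'.trans ?_
      simp only [f, ek]
    set w := y (key (ρ v)) (pfk ⟨⟨v, hv⟩, hne⟩) with hw
    have r1 : w * v ∈ Rx Q x := hrest _ hv rfl
    have r2 : w * v' ∈ Rx Q x := hrest _ hv' ek.symm
    have hπ : π (w * v) = π (w * v') := by
      obtain ⟨a, b, c, d⟩ := (P.Rx_iff hf (mem_Rx.1 r1).1).1 r1
      obtain ⟨a', b', c', d'⟩ := (P.Rx_iff hf (mem_Rx.1 r2).1).1 r2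
      simp only [cu4, Prod.mk.injEq] at e2''
      rw [(fix_table _ a b c d).1, (fix_table _ a' b' c' d').1, e2''.1, e2''.2.1, e2''.2.2.1, e2''.2.2.2]
    rcases P.S.eq_of_pi (mem_Rx.1 r1).1 (mem_Rx.1 r2).1 hπ with h | h
    · exact Subtype.ext (Subtype.ext (mul_left_cancel h))
    · exfalso
      obtain ⟨l, Pl, -⟩ := pr hv' hne'
      rw [mul_assoc] at h
      have h' := mul_left_cancel h
      obtain ⟨n, -, en⟩ := id hv
      exact Pl.no_zx ⟨n, by rw [en, h', Pl.comm]⟩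
  have fsurj : Function.Surjective f := by
    rintro ⟨⟨b, hb⟩, c⟩
    obtain ⟨l, Py, -⟩ := pr (hyO b hb) (hyne b hb)
    obtain ⟨hc1, hc2, hc3, hc4, hc5⟩ := uv_facts c
    obtain ⟨s, hs⟩ := Py.four (uv c) (by
      rw [dd, P.AA_key hf (hOA (hyO b hb)), mk_span _ _ ⟨hc2, hc3, hc4, hc5⟩, CoT.add_self])
    obtain ⟨m, hm, rfl⟩ := P.S.pi_surj s
    obtain ⟨-, hd⟩ := Py.mem_conj hm
    set w := y b hb with hw
    have hv : m * w * m⁻¹ ∈ O := hOmul (hyO b hb) (hQN hm)
    have hk : key (ρ (m * w * m⁻¹)) = b := by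
      rw [show ρ (m * w * m⁻¹) = ρ w from funext fun u => by
        rw [P.S.rho_mul (P.S.comm_mul (P.S.Qz hm) (P.AA_z (hOA (hyO b hb)))) (P.S.Qz (inv_mem hm)),
          P.S.rho_Q (inv_mem hm), P.S.rho_mul (P.S.Qz hm) (P.AA_z (hOA (hyO b hb))), P.S.rho_Q hm]]
      exact hyk b hb
    refine ⟨⟨⟨_, hv⟩, hOne (hyO b hb) (P.S.Qz hm) (hyne b hb)⟩, ?_⟩
    refine Prod.ext (Subtype.ext hk) ?_
    show cu4 (π (y (key (ρ (m * w * m⁻¹))) _ * (m * w * m⁻¹))) = c
    simp only [hk]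
    rw [← hw, show w * (m * w * m⁻¹) = w * m * w⁻¹ * m⁻¹ by rw [Py.x_inv]; group, hd, hs, hc1]
  have hcardO : Nat.card O = 449 := by
    have h1 := Nat.card_eq_of_bijective f ⟨finj, fsurj⟩
    let z' : O := ⟨z, 1, one_mem _, by group⟩
    have h2 := Nat.card_congr ((Equiv.optionSubtypeNe z').symm)
    have h3 : Nat.card {v : O // v ≠ z'} = Nat.card {v : O // v.1 ≠ z} :=
      Nat.card_congr (Equiv.subtypeEquivRight fun v => not_congr Subtype.ext_iff)
    rw [h2, Finite.card_option, h3, h1, Nat.card_prod, card_key, Nat.card_prod, Nat.card_prod,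
      Nat.card_prod, card_F]
  -- the automorphisms induced by the normaliser
  let φ : N →* MulAut A := A.normalizerMonoidHom
  let za : A := ⟨z, hzA⟩
  have horb : Nat.card (MulAction.orbit φ.range za) = 449 := by
    rw [← hcardO]
    refine Nat.card_eq_of_bijective
      (fun p => (⟨(p.1 : G), by
        obtain ⟨⟨_, n, rfl⟩, e⟩ := p.2
        exact ⟨n, n.2, congrArg Subtype.val e⟩⟩ : O)) ⟨?_, ?_⟩
    · intro p r e
      exact Subtype.ext (Subtype.ext (congrArg (fun v : O => v.1) e))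
    · rintro ⟨v, n, hn, rfl⟩
      exact ⟨⟨φ ⟨n, hn⟩ za, ⟨φ ⟨n, hn⟩, ⟨n, hn⟩, rfl⟩, rfl⟩, rfl⟩
  have hdvd : 449 ∣ Nat.card φ.range := by
    rw [← horb, Nat.card_congr (MulAction.orbitEquivQuotientStabilizer φ.range za)]
    exact Subgroup.card_quotient_dvd_card _
  haveI := Fact.mk prime_449
  obtain ⟨h, hh⟩ := exists_prime_orderOf_dvd_card' 449 hdvd
  have hA2 : IsPGroup 2 A := fun a => ⟨1, Subtype.ext (by
    rw [pow_one, pow_two]; exact helem _ a.2)⟩
  have hcardA : Nat.card A ≤ 2 ^ 15 := by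
    let S := {b : K6 // ∃ a : A, key (ρ a.1) = b}
    choose r hr using fun b : S => b.2
    have h1 := Nat.card_le_card_of_injective (fun a : A => ((⟨_, a, rfl⟩ : S),
        (⟨(r ⟨_, a, rfl⟩ : G)⁻¹ * a, (mem_Rx.1 (P.AA_rep hf (r ⟨_, a, rfl⟩).2 a.2
          (hr ⟨key (ρ a.1), a, rfl⟩))).1⟩ : Q))) fun a b e => by
      obtain ⟨e1', e2'⟩ := Prod.ext_iff.1 e
      simp only at e1' e2'
      have e3' := congrArg Subtype.val e2'
      simp only [e1'] at e3'
      exact Subtype.ext (mul_left_cancel e3')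
    have h2 := Nat.card_le_card_of_injective (Subtype.val : S → K6) Subtype.val_injective
    rw [Nat.card_prod, P.S.card] at h1
    rw [card_K6] at h2
    calc Nat.card A ≤ _ := h1
      _ ≤ 64 * 512 := Nat.mul_le_mul h2 (le_of_eq (by norm_num))
      _ = _ := by norm_num
  exact no_449 hA2 hcardA (h : MulAut A) (by rw [orderOf_coe, hh])

end Pr

/-- No commuting pair of conjugates. -/
theorem no_pair {g x : G} (P : Pr z Q π ρ g x) : False := by
  obtain ⟨π', ρ', g', x', P', -, e⟩ := P.exists_e3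
  exact P'.no_pair_e3 e

end Cfsg.Agent.Co1NW
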