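import Cfsg.Agent.Lib.Co1Recog.NonWeak.Types

/-!
For a commuting pair `z, x` of conjugates the product `z x` is not conjugate to `z`.
-/

set_option autoImplicit false
set_option linter.style.haveILetI false
set_option linter.unusedSectionVars false
set_option maxRecDepth 20000
set_option maxHeartbeats 1000000
set_option synthInstance.maxSize 4000
set_option synthInstance.maxHeartbeats 400000

namespace Cfsg.Agent.Co1NW

open Subgroup LargeExtra CoT

local notation "F" => ZMod 2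

theorem nz_facts : (∀ w ∈ [e3, f3, e3 + f3],
      dd (nf w) e0 = 0 ∧ dd (nf w) e1 = 0 ∧ dd (nf w) e2 = 0) ∧
    q e0 = 0 ∧ q e1 = 0 ∧ q e2 = 0 ∧ bil f0 e0 = 1 ∧ q f0 = 0 ∧
    (∀ r ∈ [e3, f3, e3 + f3], ∀ r' ∈ [e3, f3, e3 + f3], r ≠ r' → bil r r' = 1) := by
  decide +kernel

theorem outside_T : ∀ v : V, bil v e0 = 0 → bil v e1 = 0 → bil v e2 = 0 →
    v = sm (bil v f0) e0 + sm (bil v f1) e1 + sm (bil v f2) e2 ∨
      ∃ r ∈ [e3, f3, e3 + f3], v + r = sm (bil v f0) e0 + sm (bil v f1) e1 + sm (bil v f2) e2 := by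
  decide +kernel

theorem three_third : ∀ r ∈ [e3, f3, e3 + f3], ∀ r' ∈ [e3, f3, e3 + f3], ∀ s ∈ [e3, f3, e3 + f3],
    ∀ t ∈ [e3, f3, e3 + f3], r ≠ r' → s ≠ r → s ≠ r' → t ≠ r → t ≠ r' → s = t := by
  decide +kernel

theorem eight_table : ∀ r ∈ [e3, f3, e3 + f3], (Finset.univ.filter fun u : V =>
    bil u e0 = 0 ∧ bil u e1 = 0 ∧ bil u e2 = 0 ∧ bil u r = 0 ∧ q (f0 + u) = 0).card ≤ 8 := by
  decide +kernel

variable {G : Type*} [Group G] [Finite G] {z : G} {Q : Subgroup G} {π : G → V} {ρ : G → V → V}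

namespace Pr

variable {g x : G} (P : Pr z Q π ρ g x)
include P

/-- The elements of `Q'` centralising `z`, times `z`, are conjugates when `z x` is one. -/
theorem zd_conj (hzx : ∃ l, l * z * l⁻¹ = z * x) {d : G} (hd : d ∈ cj g Q) (hdz : d * z = z * d) :
    ∃ l, l * z * l⁻¹ = z * d := by
  obtain ⟨μ', M'⟩ := P.swap.exists_mu
  obtain ⟨y, hy⟩ := P.swap.four _ (P.swap.fixed M' hd hdz).1
  obtain ⟨n, hn, rfl⟩ := P.swap.S.pi_surj y
  obtain ⟨h1, h2⟩ := P.swap.mem_conj hn
  have hnx : n * x = x * n := P.comm' hn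
  have hdx : d * x = x * d := P.comm' hd
  have hinv : d⁻¹ = d ∨ d⁻¹ = d * x := by
    rcases P.loc'.sq_cases hd with e | e
    · exact Or.inl (inv_eq_of_mul_eq_one_right e)
    · exact Or.inr (inv_eq_of_mul_eq_one_right (by rw [← mul_assoc, e, P.xx]))
  have hzc : n * z * n⁻¹ = (z * n * z⁻¹ * n⁻¹)⁻¹ * z := by group
  have key : n * z * n⁻¹ = z * d ∨ n * z * n⁻¹ = z * d * x := by
    rcases P.swap.S.eq_of_pi h1 hd (h2.trans hy) with e | e <;> rw [hzc, e]
    · rcases hinv with a | a <;> rw [a]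
      · exact Or.inl hdz
      · exact Or.inr (by rw [mul_assoc, P.comm, ← mul_assoc, hdz])
    · rw [mul_inv_rev, P.x_inv]
      rcases hinv with a | a <;> rw [a]
      · exact Or.inr (by rw [← hdx, mul_assoc, P.comm, ← mul_assoc, hdz])
      · exact Or.inl (by rw [← mul_assoc x d x, ← hdx, mul_assoc d x x, P.xx, mul_one, hdz])
  rcases key with e | e
  · exact ⟨n, e⟩
  · obtain ⟨l, hl⟩ := hzx
    refine ⟨n * l, ?_⟩
    calc n * l * z * (n * l)⁻¹ = n * (l * z * l⁻¹) * n⁻¹ := by group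
      _ = n * z * (x * n⁻¹) := by rw [hl]; group
      _ = n * z * (n⁻¹ * x) := by rw [← P.comm' (inv_mem hn)]
      _ = (n * z * n⁻¹) * x := by group
      _ = _ := by rw [e, mul_assoc, P.xx, mul_one]

theorem no_zx_nf {w : V} (hw : w ∈ [e3, f3, e3 + f3]) (hf : ρ x = nf w)
    (hzx : ∃ l, l * z * l⁻¹ = z * x) : False := by
  classical
  obtain ⟨hT, q0, q1, q2, bf, qf, h3⟩ := nz_facts
  obtain ⟨t0, t1, t2⟩ := hT w hw
  rw [← hf] at t0 t1 t2
  obtain ⟨μ, M⟩ := P.exists_mu
  obtain ⟨inj, hfix⟩ := P.KK_faithful M P.inter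
  have hφ : ∀ {e}, dd (ρ x) e = 0 → q e = 0 → bil e μ = 0 := fun {e} he hq => by
    obtain ⟨y, rfl⟩ := P.four e he
    rw [M.dq, hq]
  have k0 : ∀ k : KK z Q g, ρ k e0 = e0 := fun k => hfix k e0 t0 (hφ t0 q0)
  have k1 : ∀ k : KK z Q g, ρ k e1 = e1 := fun k => hfix k e1 t1 (hφ t1 q1)
  have k2 : ∀ k : KK z Q g, ρ k e2 = e2 := fun k => hfix k e2 t2 (hφ t2 q2)
  have iso : ∀ k : KK z Q g, (k : G) ≠ 1 → ∀ u v, ρ k u = u → ρ k v = v → bil u v = 0 := by
    intro k hk u v hu hv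
    obtain ⟨l, hl⟩ := P.zd_conj hzx k.2.1 k.2.2
    have Pk : Pr z Q π ρ l (z * k) := ⟨P.S, P.wk, hl, by rw [mul_assoc, k.2.2],
      fun e => hk (mul_eq_left.1 e)⟩
    have e : ∀ v, dd (ρ k) v = dd (ρ (z * k)) v := fun v => by
      rw [dd, dd, P.S.rho_mul rfl k.2.2, P.S.rho_Q P.S.loc.mem]
    have h0 : ∀ {v}, ρ k v = v → dd (ρ (z * k)) v = 0 := fun {v} h => by
      rw [← e, dd, h, CoT.add_self]
    exact Pk.four.isotropic Pk.isom (h0 hu) (h0 hv)
  have third : ∀ k : KK z Q g, (k : G) ≠ 1 → ∃ r ∈ [e3, f3, e3 + f3], ρ k r = r := by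
    intro k hk
    have hk' := P.KK_om k
    have tfix : ∀ a b c : F, ρ k (sm a e0 + sm b e1 + sm c e2) = sm a e0 + sm b e1 + sm c e2 :=
      fun a b c => by rw [hk'.add, hk'.add, hk'.sm, hk'.sm, hk'.sm, k0, k1, k2]
    by_contra hcon
    have inT : ∀ v, ρ k v = v → v = sm (bil v f0) e0 + sm (bil v f1) e1 + sm (bil v f2) e2 := by
      intro v hv
      rcases outside_T v (iso k hk v e0 hv (k0 k)) (iso k hk v e1 hv (k1 k)) (iso k hk v e2 hv (k2 k))
        with h | ⟨r, hr, h⟩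
      · exact h
      · refine absurd ⟨r, hr, ?_⟩ hcon
        have e : r = v + (sm (bil v f0) e0 + sm (bil v f1) e1 + sm (bil v f2) e2) := by
          rw [← h, ← add_assoc, CoT.add_self, zero_add]
        rw [e, hk'.add, hv, tfix]
    obtain ⟨l, hl⟩ := P.zd_conj hzx k.2.1 k.2.2
    have Pk : Pr z Q π ρ l (z * k) := ⟨P.S, P.wk, hl, by rw [mul_assoc, k.2.2],
      fun e => hk (mul_eq_left.1 e)⟩
    have h16 := sixteen_fixed Pk.isom
    have hv : ∀ v : {v // dd (ρ (z * k)) v = 0}, ρ k v.1 = v.1 := fun v => by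
      have := CoT.eq_of_add v.2
      rwa [P.S.rho_mul rfl k.2.2, P.S.rho_Q P.S.loc.mem] at this
    have := Nat.card_le_card_of_injective
      (fun v : {v // dd (ρ (z * k)) v = 0} => (bil v.1 f0, bil v.1 f1, bil v.1 f2)) fun a b e => by
        simp only [Prod.mk.injEq] at e
        exact Subtype.ext (by rw [inT _ (hv a), inT _ (hv b), e.1, e.2.1, e.2.2])
    rw [Nat.card_prod, Nat.card_prod, card_F] at this
    omega
  -- two different third vectors would leave at most four elements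
  have mulfix : ∀ (a b : KK z Q g) {r : V}, ρ a r = r → ρ b r = r → ρ ((a : G) * b) r = r :=
    fun a b r ha hb => by rw [P.S.rho_mul a.2.2 b.2.2, hb, ha]
  have invfix : ∀ (a : KK z Q g) {r : V}, ρ a r = r → ρ ((a : G)⁻¹) r = r := fun a r ha => by
    conv_lhs => rw [← ha, ← P.S.rho_mul (P.S.comm_inv a.2.2) a.2.2, inv_mul_cancel, P.S.rho_one]
  let mk2 : KK z Q g → KK z Q g → KK z Q g := fun a b =>
    ⟨(a : G) * b, mul_mem a.2.1 b.2.1, P.S.comm_mul a.2.2 b.2.2⟩
  let inv1 : KK z Q g → KK z Q g := fun a => ⟨(a : G)⁻¹, inv_mem a.2.1, P.S.comm_inv a.2.2⟩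
  have two : ∀ (k : KK z Q g), (k : G) ≠ 1 → ∀ r ∈ [e3, f3, e3 + f3], ∀ r' ∈ [e3, f3, e3 + f3],
      r ≠ r' → ρ k r = r → ρ k r' = r' → False := fun k hk r hr r' hr' hne a b =>
    zero_ne_one ((iso k hk r r' a b).symm.trans (h3 r hr r' hr' hne))
  have uniq : ∀ r ∈ [e3, f3, e3 + f3], ∀ r' ∈ [e3, f3, e3 + f3], r ≠ r' → ∀ d : KK z Q g, (d : G) ≠ 1 →
      ρ d r' = r' → ∀ a b : KK z Q g, (a : G) ≠ 1 → (b : G) ≠ 1 → ρ a r = r → ρ b r = r → a = b := by
    intro r hr r' hr' hne d hd hdr a b ha hb har hbr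
    have prod : ∀ a : KK z Q g, (a : G) ≠ 1 → ρ a r = r →
        ∃ r'' ∈ [e3, f3, e3 + f3], r'' ≠ r ∧ r'' ≠ r' ∧ ρ ((a : G) * d) r'' = r'' := by
      intro a ha har
      have hne1 : (a : G) * d ≠ 1 := fun e => by
        have e' : (d : G) = (a : G)⁻¹ := eq_inv_of_mul_eq_one_right e
        exact two d hd r hr r' hr' hne (by rw [e']; exact invfix a har) hdr
      obtain ⟨s, hs, hsf⟩ := third (mk2 a d) hne1
      refine ⟨s, hs, fun e => ?_, fun e => ?_, hsf⟩
      · subst e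
        have h : ρ d s = s := by
          have := mulfix (inv1 a) (mk2 a d) (invfix a har) hsf
          simpa [inv1, mk2] using this
        exact two d hd s hs r' hr' hne h hdr
      · subst e
        have h : ρ a s = s := by
          have := mulfix (mk2 a d) (inv1 d) hsf (invfix d hdr)
          simpa [inv1, mk2] using this
        exact two a ha r hr s hs hne har h
    obtain ⟨s, hs, sr, sr', hsf⟩ := prod a ha har
    obtain ⟨t, ht, tr', tr'', htf⟩ := prod b hb hbr
    have hst : s = t := three_third r hr r' hr' s hs t ht hne sr sr' tr' tr''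
    subst hst
    by_contra hab
    refine two (mk2 a (inv1 b)) (fun e => hab (Subtype.ext (mul_inv_eq_one.1 e))) r hr s hs sr.symm
      (mulfix a (inv1 b) har (invfix b hbr)) ?_
    have := mulfix (mk2 a d) (inv1 (mk2 b d)) hsf (invfix (mk2 b d) htf)
    simpa [inv1, mk2, mul_assoc] using this
  have h16 := P.card_KK
  obtain ⟨r, hr, hall⟩ : ∃ r ∈ [e3, f3, e3 + f3], ∀ k : KK z Q g, ρ k r = r := by
    by_contra hcon
    push Not at hcon
    choose! c hc hcf using third
    have c0 : ∀ {k : KK z Q g}, (k : G) ≠ 1 → c k ≠ 0 := fun {k} hk e => by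
      have := hc k hk
      rw [e] at this
      revert this
      decide +kernel
    let f : KK z Q g → ({0, e3, f3, e3 + f3} : Finset V) := fun k =>
      ⟨if (k : G) = 1 then 0 else c k, by
        split
        · simp
        · rename_i h
          have := hc k h
          simp only [List.mem_cons, List.not_mem_nil, or_false] at this
          rcases this with e | e | e <;> simp [e]⟩
    have finj : Function.Injective f := by
      intro a b e
      have e' : (if (a : G) = 1 then 0 else c a) = if (b : G) = 1 then 0 else c b := congrArg Subtype.val e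
      by_cases ha : (a : G) = 1 <;> by_cases hb : (b : G) = 1
      · exact Subtype.ext (ha.trans hb.symm)
      · rw [if_pos ha, if_neg hb] at e'; exact absurd e'.symm (c0 hb)
      · rw [if_neg ha, if_pos hb] at e'; exact absurd e' (c0 ha)
      · rw [if_neg ha, if_neg hb] at e'
        obtain ⟨d, hd⟩ := hcon (c a) (hc a ha)
        have d1 : (d : G) ≠ 1 := fun h => hd (by rw [h, P.S.rho_one])
        exact uniq (c a) (hc a ha) (c d) (hc d d1) (fun h => hd (by rw [h]; exact hcf d d1)) d d1 (hcf d d1)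
          a b ha hb (hcf a ha) (by rw [e']; exact hcf b hb)
    have := Nat.card_le_card_of_injective f finj
    rw [Nat.card_eq_fintype_card (α := ({0, e3, f3, e3 + f3} : Finset V)), Fintype.card_coe] at this
    have h4 : ({0, e3, f3, e3 + f3} : Finset V).card ≤ 4 := Finset.card_le_four
    omega
  have h8 := eight_table r hr
  let f : KK z Q g → (Finset.univ.filter fun u : V =>
      bil u e0 = 0 ∧ bil u e1 = 0 ∧ bil u e2 = 0 ∧ bil u r = 0 ∧ q (f0 + u) = 0) := fun k =>
    ⟨dd (ρ k) f0, by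
      have hk : IsIso (ρ k) := ⟨(P.KK_om k).add, (P.KK_om k).q_eq⟩
      have perp : ∀ v, ρ k v = v → bil (dd (ρ k) f0) v = 0 := fun v hv => by
        rw [dd, bil_add_left]
        conv_lhs => enter [1, 2]; rw [← hv]
        rw [hk.bil_eq, F_add_self]
      rw [Finset.mem_filter]
      exact ⟨Finset.mem_univ _, perp _ (k0 k), perp _ (k1 k), perp _ (k2 k), perp _ (hall k), by
        rw [dd, add_comm (ρ k f0) f0, ← add_assoc, CoT.add_self, zero_add, hk.qq, qf]⟩⟩
  have finj : Function.Injective f := by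
    intro a b e
    have e' : ρ a f0 = ρ b f0 := add_right_cancel (congrArg Subtype.val e)
    by_contra hab
    refine zero_ne_one ((iso (mk2 (inv1 b) a) (fun h => hab (Subtype.ext (inv_mul_eq_one.1 h).symm))
      f0 e0 ?_ (mulfix (inv1 b) a (invfix b (k0 b)) (k0 a))).symm.trans bf)
    show ρ ((b : G)⁻¹ * a) f0 = f0
    rw [P.S.rho_mul (P.S.comm_inv b.2.2) a.2.2, e', ← P.S.rho_mul (P.S.comm_inv b.2.2) b.2.2,
      inv_mul_cancel, P.S.rho_one]
  have := Nat.card_le_card_of_injective f finj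
  rw [Nat.card_eq_fintype_card (α := (Finset.univ.filter fun u : V =>
      bil u e0 = 0 ∧ bil u e1 = 0 ∧ bil u e2 = 0 ∧ bil u r = 0 ∧ q (f0 + u) = 0 : Finset V)),
    Fintype.card_coe] at this
  omega

theorem no_zx : ¬ ∃ l, l * z * l⁻¹ = z * x := by
  rintro ⟨l, hl⟩
  obtain ⟨g', x', P', ⟨h, hh, rfl⟩, w, hw, e⟩ := P.exists_nf
  refine P'.no_zx_nf hw e ⟨h * l, ?_⟩
  calc h * l * z * (h * l)⁻¹ = h * (l * z * l⁻¹) * h⁻¹ := by group
    _ = h * z * x * h⁻¹ := by rw [hl]; group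
    _ = _ := by rw [hh]; group

end Pr

end Cfsg.Agent.Co1NW
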