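import Cfsg.Agent.Lib.Co1Recog.NonWeak.Fixed

/-!
Standard forms for the action of a commuting conjugate.
-/

set_option autoImplicit false
set_option linter.style.haveILetI false
set_option linter.unusedSectionVars false
set_option maxRecDepth 20000
set_option maxHeartbeats 2000000
set_option synthInstance.maxSize 4000
set_option synthInstance.maxHeartbeats 400000

namespace Cfsg.Agent.Co1NW

open Subgroup LargeExtra CoT

local notation "F" => ZMod 2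

/-- The involution with four-dimensional commutator space attached to `w`. -/
def nf (w v : V) : V := sg e0 w (sg e1 e2 v)

/-- The standard basis. -/
def bas : List V := [e0, f0, e1, f1, e2, f2, e3, f3]

theorem ext_basis {f f' : V → V} (hf : ∀ u v, f (u + v) = f u + f v)
    (hf' : ∀ u v, f' (u + v) = f' u + f' v) (h : ∀ b ∈ bas, f b = f' b) : f = f' := by
  have z0 : f 0 = f' 0 := by
    have h1 := hf 0 0
    have h2 := hf' 0 0
    rw [add_zero] at h1 h2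
    rw [left_eq_add.1 h1, left_eq_add.1 h2]
  have hs : ∀ (c : F) (b : V), b ∈ bas → f (CoT.sm c b) = f' (CoT.sm c b) := fun c b hb => by
    rcases F_cases c with rfl | rfl
    · rw [sm_zero, z0]
    · rw [sm_one, h b hb]
  funext x
  have hx : x = sm x.1.1 e0 + sm x.1.2 f0 + sm x.2.1.1 e1 + sm x.2.1.2 f1 + sm x.2.2.1.1 e2 +
      sm x.2.2.1.2 f2 + sm x.2.2.2.1 e3 + sm x.2.2.2.2 f3 := by
    simp [sm_smul, e0, f0, e1, f1, e2, f2, e3, f3, Prod.ext_iff]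
  rw [hx]
  simp only [hf, hf']
  rw [hs _ e0 (by simp [bas]), hs _ f0 (by simp [bas]), hs _ e1 (by simp [bas]), hs _ f1 (by simp [bas]),
    hs _ e2 (by simp [bas]), hs _ f2 (by simp [bas]), hs _ e3 (by simp [bas]), hs _ f3 (by simp [bas])]

theorem nf_add (w u v : V) : nf w (u + v) = nf w u + nf w v := by
  simp only [nf, sg_add]

theorem nf_perp : ∀ w : V, bil w e0 = 0 → (∀ b ∈ bas, nf w (nf w b) = b) →
    bil w e1 = 0 ∧ bil w e2 = 0 := by
  decide +kernel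

theorem nf_reduce : ∀ w : V, bil w e0 = 0 → bil w e1 = 0 → bil w e2 = 0 →
    (∃ d : V, d ∈ [e3, f3, e3 + f3] ∧ bil d w = 1) →
    ∃ u ∈ [0, f1, f2, f1 + f2], bil u e0 = 0 ∧ ∃ w' ∈ [e3, f3, e3 + f3],
      ∀ b ∈ bas, sg e0 u (nf w (sg e0 u b)) = nf w' b := by
  decide +kernel

theorem nf_d : ∀ w : V, bil w e0 = 0 → bil w e1 = 0 → bil w e2 = 0 → ∀ d : V,
    bil d e0 = 0 → bil d e1 = 0 → bil d e2 = 0 → nf w d = d + e0 →
    ∃ d' : V, d' ∈ [e3, f3, e3 + f3] ∧ bil d' w = 1 := by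
  decide +kernel

theorem e12_facts : q e1 = 0 ∧ bil e2 e1 = 0 ∧ sg e1 e2 e0 = e0 ∧ e0 ≠ 0 ∧ q e0 = 0 ∧
    ∀ x : V, bil x e0 = 0 → bil (sg e1 e2 x) e0 = 0 := by
  decide +kernel

variable {G : Type*} [Group G] [Finite G] {z : G} {Q : Subgroup G} {π : G → V} {ρ : G → V → V}

namespace Pr

variable {g x : G} (P : Pr z Q π ρ g x)
include P

/-- Conjugating a pair by a lift of an element of the image. -/
theorem transport {k : V → V} (hk : IsOm k) :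
    ∃ g' x', Pr z Q π ρ g' x' ∧ (∃ h, h * z = z * h ∧ h * x * h⁻¹ = x') ∧
      ∀ v, ρ x' (k v) = k (ρ x v) := by
  obtain ⟨h, hh, rfl⟩ := P.S.lift k hk
  have hhi := P.S.comm_inv hh
  have hc : h * x * h⁻¹ * z = z * (h * x * h⁻¹) := P.S.comm_mul (P.S.comm_mul hh P.comm) hhi
  refine ⟨h * g, h * x * h⁻¹, ⟨P.S, P.wk, by rw [← P.hx]; group, hc, fun e => P.ne ?_⟩, ⟨h, hh, rfl⟩,
    fun v => ?_⟩
  · calc x = h⁻¹ * (h * x * h⁻¹) * h := by group
      _ = h⁻¹ * (z * h) := by rw [e, mul_assoc]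
      _ = z := by rw [← hh, inv_mul_cancel_left]
  · rw [P.S.rho_mul (P.S.comm_mul hh P.comm) hhi, P.S.rho_mul hh P.comm, ← P.S.rho_mul hhi hh,
      inv_mul_cancel, P.S.rho_one]

theorem transport_sg {k : V → V} (hk : IsOm k) {e v : V} (hf : ρ x = sg e v) :
    ∃ g' x', Pr z Q π ρ g' x' ∧ (∃ h, h * z = z * h ∧ h * x * h⁻¹ = x') ∧ ρ x' = sg (k e) (k v) := by
  obtain ⟨g', x', P', hc, e'⟩ := P.transport hk
  refine ⟨g', x', P', hc, funext fun u => ?_⟩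
  obtain ⟨k', -, -, hr⟩ := hk.inv
  rw [← hr u, e', hf, hk.map_sg]

/-- The five standard forms. -/
theorem exists_rep : ∃ g' x', Pr z Q π ρ g' x' ∧ (∃ h, h * z = z * h ∧ h * x * h⁻¹ = x') ∧
    (ρ x' = sg e0 e1 ∨ ρ x' = sg e0 a0 ∨ ∃ w ∈ [e3, f3, e3 + f3], ρ x' = nf w) := by
  have chain : ∀ {g₁ x₁ g₂ x₂ : G}, (∃ h, h * z = z * h ∧ h * x * h⁻¹ = x₁) →
      Pr z Q π ρ g₂ x₂ → (∃ h, h * z = z * h ∧ h * x₁ * h⁻¹ = x₂) →
      ∃ h, h * z = z * h ∧ h * x * h⁻¹ = x₂ := by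
    rintro g₁ x₁ g₂ x₂ ⟨h, hh, rfl⟩ P₂ ⟨h', hh', rfl⟩
    exact ⟨h' * h, P.S.comm_mul hh' hh, by group⟩
  rcases invol_cases (P.S.om x P.comm) P.isom.inv with h | ⟨e, hr⟩ | ⟨k, k', hk, -, hl, hr, hnf⟩
  · obtain ⟨v, hv⟩ := P.moves
    exact absurd (h v) hv
  · obtain ⟨v, hve, hall, -⟩ := P.isom.eq_sg hr
    obtain ⟨hqe, hne, -, -⟩ := hr
    obtain ⟨k, hk, hke⟩ := move_e0 hqe hne
    obtain ⟨g₁, x₁, P₁, c₁, e₁⟩ := P.transport_sg hk (funext hall)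
    rw [hke] at e₁
    set v' := k v with hv'
    have hv0 : bil v' e0 = 0 := by rw [← hke, hv', hk.bil_eq, hve]
    have nid : ∀ c, Eqv e0 v' c → sg e0 c ≠ fun u => u := by
      intro c hc he
      obtain ⟨u, hu⟩ := P₁.moves
      refine hu ?_
      rcases hc with hc | hc
      · rw [e₁, hc, he]
      · have hc0 : bil c e0 = 0 := by
          rw [hc, bil_add_left, CoT.bil_self, add_zero] at hv0; exact hv0
        rw [e₁, sg_congr base_facts.1 hc0 (Or.inr hc), he]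
    have hsg0 : sg e0 0 = fun u => u := funext (sg_zero e0)
    have v0' : v' ≠ 0 := fun h => nid 0 (Or.inl h) hsg0
    have v1' : v' ≠ e0 := fun h => nid 0 (Or.inr (by rw [h, zero_add])) hsg0
    rcases F_cases (q v') with hq | hq
    · obtain ⟨k₂, hk₂, k₂0, k₂v⟩ := move_e1 hq hv0 v0' v1'
      obtain ⟨g₂, x₂, P₂, c₂, e₂⟩ := P₁.transport_sg hk₂ e₁
      rw [k₂0, k₂v] at e₂
      exact ⟨g₂, x₂, P₂, chain (g₁ := g₁) c₁ P₂ c₂, Or.inl e₂⟩
    · obtain ⟨w, hw, h2, h3, h4⟩ := viaA v' hq hv0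
      obtain ⟨-, -, -, -, -, -, -, -, -, qa, ba, -⟩ := base_facts
      obtain ⟨k₂, hk₂, k₂v, hfix⟩ := move (hw.trans hq.symm) (hw.trans qa.symm) h3 h4
      obtain ⟨g₂, x₂, P₂, c₂, e₂⟩ := P₁.transport_sg hk₂ e₁
      rw [hfix e0 (by rw [CoT.bil_comm, hv0, h2]) (by rw [CoT.bil_comm, ba, h2]), k₂v] at e₂
      exact ⟨g₂, x₂, P₂, chain (g₁ := g₁) c₁ P₂ c₂, Or.inr (Or.inl e₂)⟩
  · obtain ⟨g₁, x₁, P₁, c₁, e₁⟩ := P.transport hk
    have hx1 : ∀ u, ρ x₁ u = k (ρ x (k' u)) := fun u => by rw [← e₁, hr]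
    obtain ⟨he0, hperp, d, hd, pd0, pd1, pd2⟩ := hnf
    simp only [← hx1] at he0 hperp hd
    obtain ⟨q1, b21, s0, ne0, q0, hs⟩ := e12_facts
    have hsom : IsOm (sg e1 e2) := isOm_sg q1 b21
    have hss : ∀ u, sg e1 e2 (sg e1 e2 u) = u := fun u => by
      rw [sg_sg q1 b21 b21, CoT.add_self, sg_zero]
    have hcomp : IsOm (fun u => ρ x₁ (sg e1 e2 u)) := (P₁.S.om x₁ P₁.comm).comp hsom
    have hfix : (fun u => ρ x₁ (sg e1 e2 u)) e0 = e0 := by simp only [s0, he0]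
    have hid : ∀ u, bil u e0 = 0 → Eqv e0 (ρ x₁ (sg e1 e2 u)) u := fun u hu => by
        have h1 : Eqv e0 (ρ x₁ (sg e1 e2 u))
          (sg e1 e2 u + sm (bil (sg e1 e2 u) e2) e1 + sm (bil (sg e1 e2 u) e1) e2) :=
          hperp (sg e1 e2 u) (hs u hu)
        have h2 : sg e1 e2 u + sm (bil (sg e1 e2 u) e2) e1 + sm (bil (sg e1 e2 u) e1) e2 = u := by
          have h3 := hss u
          conv_lhs at h3 => rw [sg]
          rw [show q e2 = 0 from base_facts.2.2.2.2.2.2.1, sm_zero, add_zero] at h3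
          exact h3
        rwa [h2] at h1
    obtain ⟨w, hw, hall⟩ := hcomp.eq_sg ne0 hfix hid
    have hnfw : ρ x₁ = nf w := funext fun u => by
      show ρ x₁ u = sg e0 w (sg e1 e2 u)
      rw [← hall (sg e1 e2 u), hss]
    have hinv : ∀ b ∈ bas, nf w (nf w b) = b := fun b _ => by rw [← hnfw]; exact P₁.isom.inv b
    obtain ⟨w1, w2⟩ := nf_perp w hw hinv
    have hd' : nf w d = d + e0 := by
      rw [← hnfw, P₁.isom.f_eq d]
      exact congrArg (d + ·) hd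
    obtain ⟨u, -, hu0, w', hw', hall'⟩ := nf_reduce w hw w1 w2 (nf_d w hw w1 w2 d pd0 pd1 pd2 hd')
    have huom := isOm_sg q0 hu0
    obtain ⟨g₂, x₂, P₂, c₂, e₂⟩ := P₁.transport huom
    refine ⟨g₂, x₂, P₂, chain (g₁ := g₁) c₁ P₂ c₂, Or.inr (Or.inr ⟨w', hw', ?_⟩)⟩
    have hsu : ∀ a, sg e0 u (sg e0 u a) = a := fun a => by
      rw [sg_sg q0 hu0 hu0, CoT.add_self, sg_zero]
    refine ext_basis P₂.isom.add (nf_add w') fun b hb => ?_
    rw [← hall' b hb, ← hnfw]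
    conv_lhs => rw [← hsu b]
    exact e₂ _

end Pr

end Cfsg.Agent.Co1NW
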