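import Cfsg.Agent.Lib.Co1Recog.NonWeak.Two

/-!
A root pair is impossible: the induced maps on the middle of the fixed space form an irreducible module.
-/

set_option autoImplicit false
set_option linter.style.haveILetI false
set_option linter.unusedSectionVars false
set_option maxRecDepth 20000
set_option maxHeartbeats 1000000
set_option synthInstance.maxSize 4000
set_option synthInstance.maxHeartbeats 400000

namespace Cfsg.Agent.Co1NW

open Subgroup LargeExtra CoT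

local notation "F" => ZMod 2

/-- Coordinates on the line `e0, e1`. -/
def cu (u : V) : F × F := (bil u f0, bil u f1)

/-- Four vectors of the line. -/
abbrev P8 := (F × F) × (F × F) × (F × F) × (F × F)

/-- The map induced on the middle of the fixed space. -/
def phi (f : V → V) : P8 := (cu (dd f e2), cu (dd f f2), cu (dd f e3), cu (dd f f3))

def d1 (p : P8) : P8 := (0, p.2.2.1, 0, p.1)
def d2 (p : P8) : P8 := (0, p.2.2.2, p.1, 0)
def d3 (p : P8) : P8 := (p.2.2.1, 0, 0, p.2.1)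
def d4 (p : P8) : P8 := (p.2.2.2, 0, p.2.1, 0)
def n1 (p : P8) : P8 := ((p.1.2, 0), (p.2.1.2, 0), (p.2.2.1.2, 0), (p.2.2.2.2, 0))
def n2 (p : P8) : P8 := ((0, p.1.1), (0, p.2.1.1), (0, p.2.2.1.1), (0, p.2.2.2.1))

/-- Closed under sums and the six operators. -/
structure Closed (M : P8 → Prop) : Prop where
  add : ∀ {p r}, M p → M r → M (p + r)
  h1 : ∀ {p}, M p → M (d1 p)
  h2 : ∀ {p}, M p → M (d2 p)
  h3 : ∀ {p}, M p → M (d3 p)
  h4 : ∀ {p}, M p → M (d4 p)
  hn1 : ∀ {p}, M p → M (n1 p)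
  hn2 : ∀ {p}, M p → M (n2 p)

def ops : List (P8 → P8) := [id, d1, d2, d3, d4]

theorem reach_table : ∀ a b c d : F, (a = 0 ∧ b = 0 ∧ c = 0 ∧ d = 0) ∨
    (ops.any fun o => ops.any fun o' => ops.any fun o'' =>
      decide (o (o' (o'' ((a, 0), (b, 0), (c, 0), (d, 0)))) = (0, 0, (1, 0), 0))) = true := by
  decide +kernel

theorem line_table : ∀ p : P8, p ≠ 0 → n1 p ≠ 0 ∨
    p = ((p.1.1, 0), (p.2.1.1, 0), (p.2.2.1.1, 0), (p.2.2.2.1, 0)) := by
  decide +kernel

theorem p8_basis : ∀ p : P8, p =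
    (if p.1.1 = 1 then (((1, 0), 0, 0, 0) : P8) else 0) + (if p.1.2 = 1 then ((0, 1), 0, 0, 0) else 0) +
    (if p.2.1.1 = 1 then (0, (1, 0), 0, 0) else 0) + (if p.2.1.2 = 1 then (0, (0, 1), 0, 0) else 0) +
    (if p.2.2.1.1 = 1 then (0, 0, (1, 0), 0) else 0) + (if p.2.2.1.2 = 1 then (0, 0, (0, 1), 0) else 0) +
    (if p.2.2.2.1 = 1 then (0, 0, 0, (1, 0)) else 0) + (if p.2.2.2.2 = 1 then (0, 0, 0, (0, 1)) else 0) := by
  decide +kernel

theorem Closed.all {M : P8 → Prop} (h : Closed M) (h0 : M 0) {p : P8} (hp : M p) (hne : p ≠ 0) :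
    ∀ r, M r := by
  have step : ∀ o ∈ ops, ∀ {r}, M r → M (o r) := by
    intro o ho r hr
    simp only [ops, List.mem_cons, List.not_mem_nil, or_false] at ho
    rcases ho with rfl | rfl | rfl | rfl | rfl
    exacts [hr, h.h1 hr, h.h2 hr, h.h3 hr, h.h4 hr]
  obtain ⟨r, hr, hr0, he⟩ : ∃ r, M r ∧ r ≠ 0 ∧
      r = ((r.1.1, 0), (r.2.1.1, 0), (r.2.2.1.1, 0), (r.2.2.2.1, 0)) := by
    rcases line_table p hne with e | e
    · exact ⟨n1 p, h.hn1 hp, e, rfl⟩
    · exact ⟨p, hp, hne, e⟩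
  have b3 : M (0, 0, (1, 0), 0) := by
    rcases reach_table r.1.1 r.2.1.1 r.2.2.1.1 r.2.2.2.1 with ⟨a, b, c, d⟩ | e
    · refine absurd ?_ hr0
      rw [he, a, b, c, d]; rfl
    · simp only [List.any_eq_true, decide_eq_true_eq] at e
      obtain ⟨o, ho, o', ho', o'', ho'', e⟩ := e
      rw [← he] at e
      rw [← e]
      exact step o ho (step o' ho' (step o'' ho'' hr))
  have b2 : M (0, (1, 0), 0, 0) := h.h1 b3
  have b1 : M ((1, 0), 0, 0, 0) := h.h3 b3
  have b4 : M (0, 0, 0, (1, 0)) := h.h1 b1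
  have c1 : M ((0, 1), 0, 0, 0) := h.hn2 b1
  have c2 : M (0, (0, 1), 0, 0) := h.hn2 b2
  have c3 : M (0, 0, (0, 1), 0) := h.hn2 b3
  have c4 : M (0, 0, 0, (0, 1)) := h.hn2 b4
  have hite : ∀ (c : F) {r : P8}, M r → M (if c = 1 then r else 0) := fun c r hr => by
    split
    exacts [hr, h0]
  intro r
  rw [p8_basis r]
  exact h.add (h.add (h.add (h.add (h.add (h.add (h.add (hite _ b1) (hite _ c1)) (hite _ b2))
    (hite _ c2)) (hite _ b3)) (hite _ c3)) (hite _ b4)) (hite _ c4)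

/-- The six transformations. -/
def sixList : List (V × V) := [(e2, e3), (e2, f3), (f2, e3), (f2, f3), (e0, f1), (e1, f0)]

theorem six_table : (sixList.all fun p => decide (q p.1 = 0 ∧ bil p.2 p.1 = 0 ∧
    ∀ b ∈ bas, sg p.1 p.2 (sg e0 e1 b) = sg e0 e1 (sg p.1 p.2 b))) = true := by
  decide +kernel

theorem six_images :
    (sg e2 e3 e2 = e2 ∧ sg e2 e3 f2 = f2 + e3 ∧ sg e2 e3 e3 = e3 ∧ sg e2 e3 f3 = f3 + e2) ∧
    (sg e2 f3 e2 = e2 ∧ sg e2 f3 f2 = f2 + f3 ∧ sg e2 f3 e3 = e3 + e2 ∧ sg e2 f3 f3 = f3) ∧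
    (sg f2 e3 e2 = e2 + e3 ∧ sg f2 e3 f2 = f2 ∧ sg f2 e3 e3 = e3 ∧ sg f2 e3 f3 = f3 + f2) ∧
    (sg f2 f3 e2 = e2 + f3 ∧ sg f2 f3 f2 = f2 ∧ sg f2 f3 e3 = e3 + f2 ∧ sg f2 f3 f3 = f3) ∧
    (sg e0 f1 e2 = e2 ∧ sg e0 f1 f2 = f2 ∧ sg e0 f1 e3 = e3 ∧ sg e0 f1 f3 = f3) ∧
    (sg e1 f0 e2 = e2 ∧ sg e1 f0 f2 = f2 ∧ sg e1 f0 e3 = e3 ∧ sg e1 f0 f3 = f3) := by
  decide +kernel

theorem six_line : ∀ c d : F,
    cu (sg e2 e3 (sm c e0 + sm d e1)) = (c, d) ∧ cu (sg e2 f3 (sm c e0 + sm d e1)) = (c, d) ∧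
    cu (sg f2 e3 (sm c e0 + sm d e1)) = (c, d) ∧ cu (sg f2 f3 (sm c e0 + sm d e1)) = (c, d) ∧
    cu (sg e0 f1 (sm c e0 + sm d e1)) = (c + d, d) ∧ cu (sg e1 f0 (sm c e0 + sm d e1)) = (c, d + c) ∧
    cu (sm c e0 + sm d e1) = (c, d) := by
  decide +kernel

theorem root_facts : bil e2 e0 = 0 ∧ bil e2 e1 = 0 ∧ bil f2 e0 = 0 ∧ bil f2 e1 = 0 ∧ bil e3 e0 = 0 ∧
    bil e3 e1 = 0 ∧ bil f3 e0 = 0 ∧ bil f3 e1 = 0 ∧ bil f0 e0 = 1 ∧ bil f0 e1 = 0 ∧ bil f1 e0 = 0 ∧
    bil f1 e1 = 1 ∧ q f0 = 0 ∧ q f1 = 0 ∧ bil f0 f1 = 0 ∧ q e0 = 0 ∧ q e1 = 0 ∧ bil e0 e1 = 0 ∧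
    sg e0 e1 f0 = f0 + e1 ∧ sg e0 e1 f1 = f1 + e0 ∧ (∀ b ∈ bas, b = f0 ∨ b = f1 ∨ sg e0 e1 b = b) ∧
    dd (sg e0 e1) f1 = e0 := by
  decide +kernel

theorem P8_card : Nat.card P8 = 256 := by
  simp only [Nat.card_prod, card_F]

theorem p8_comp {u₁ u₂ u₃ u₄ v₁ v₂ v₃ v₄ : F × F} :
    (((u₁, u₂, u₃, u₄) : P8) + (v₁, v₂, v₃, v₄)) = (u₁ + v₁, u₂ + v₂, u₃ + v₃, u₄ + v₄) := rfl

theorem F_sandwich : ∀ a b : F, a + b + a = b := by decide +kernel

variable {G : Type*} [Group G] [Finite G] {z : G} {Q : Subgroup G} {π : G → V} {ρ : G → V → V}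

namespace Pr

variable {g x : G} (P : Pr z Q π ρ g x)
include P

theorem root_false (R : IsRoot z Q π ρ g x) : False := by
  obtain ⟨hf, M, ⟨w₀, a0, a0', p0⟩, ⟨w₁, a1, a1', p1⟩⟩ := R
  obtain ⟨t20, t21, u20, u21, t30, t31, u30, u31, f00, f01, f10, f11, qf0, qf1, bf, qe0, qe1, be,
    xf0, xf1, xbas, dx1⟩ := root_facts
  have hker : ∀ v, dd (ρ x) v = 0 ↔ bil v e0 = 0 ∧ bil v e1 = 0 := by rw [hf]; exact ker_e1
  have hzx : ¬ ∃ l, l * z * l⁻¹ = z * x := fun h => by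
    have h1 : w₀ = 1 := P.inter_range a0 a0' h (y := f1) (by rw [hf, dx1, p0])
    rw [h1, P.S.pi_one] at p0
    exact two_facts.2.1 p0.symm
  -- the intersection lies over the line
  have line : ∀ {u : V}, (∀ v, bil v e0 = 0 → bil v e1 = 0 → bil v u = 0) →
      u = sm (cu u).1 e0 + sm (cu u).2 e1 := fun {u} hu => by
    have := eq_comb01 hu
    rw [comb, bil_zero_right, sm_zero, add_zero] at this
    exact this
  have winter : ∀ {w : G}, w ∈ Q → w ∈ cj g Q → π w = sm (cu (π w)).1 e0 + sm (cu (π w)).2 e1 :=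
    fun hw hw' => line fun v a b => P.inter_bil hw hw' M ((hker v).2 ⟨a, b⟩) (bil_zero_right v)
  have wexists : ∀ c : F × F, ∃ w, w ∈ Q ∧ w ∈ cj g Q ∧ cu (π w) = c := by
    rintro ⟨c, d⟩
    have h0 : cu e0 = (1, 0) := by decide +kernel
    have h1 : cu e1 = (0, 1) := by decide +kernel
    rcases F_cases c with rfl | rfl <;> rcases F_cases d with rfl | rfl
    · exact ⟨1, one_mem _, one_mem _, by rw [P.S.pi_one]; decide +kernel⟩
    · exact ⟨w₁, a1, a1', by rw [p1, h1]⟩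
    · exact ⟨w₀, a0, a0', by rw [p0, h0]⟩
    · exact ⟨w₀ * w₁, mul_mem a0 a1, mul_mem a0' a1', by
        rw [P.S.pi_mul _ a0 _ a1, p0, p1]; decide +kernel⟩
  have cu_add : ∀ u v, cu (u + v) = cu u + cu v := fun u v =>
    Prod.ext (bil_add_left u v f0) (bil_add_left u v f1)
  have kfix0 : ∀ k : KK z Q g, ρ k e0 = e0 := fun k => p0 ▸ P.KK_fix_inter k a0 a0'
  have kfix1 : ∀ k : KK z Q g, ρ k e1 = e1 := fun k => p1 ▸ P.KK_fix_inter k a1 a1'
  have kline : ∀ (k : KK z Q g) {v}, bil v e0 = 0 → bil v e1 = 0 →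
      dd (ρ k) v = sm (cu (dd (ρ k) v)).1 e0 + sm (cu (dd (ρ k) v)).2 e1 := by
    intro k v a b
    obtain ⟨w, hw, hw', e⟩ := P.KK_fix M k ((hker v).2 ⟨a, b⟩) (bil_zero_right v)
    rw [e]
    exact winter hw hw'
  have ksm : ∀ (k : KK z Q g) c d, ρ k (sm c e0 + sm d e1) = sm c e0 + sm d e1 := fun k c d => by
    rw [(P.KK_om k).add, (P.KK_om k).sm, (P.KK_om k).sm, kfix0, kfix1]
  have phi_mul : ∀ k k' : KK z Q g, phi (ρ ((k : G) * k')) = phi (ρ k) + phi (ρ k') := by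
    intro k k'
    have hd : ∀ {v}, bil v e0 = 0 → bil v e1 = 0 →
        cu (dd (ρ ((k : G) * k')) v) = cu (dd (ρ k) v) + cu (dd (ρ k') v) := by
      intro v a b
      have h2 : ρ k' v = v + dd (ρ k') v := by rw [dd, add_comm (ρ k' v) v, ← add_assoc, CoT.add_self, zero_add]
      rw [← cu_add, dd, dd, P.S.rho_mul k.2.2 k'.2.2, h2, (P.KK_om k).add, kline k' a b, ksm,
        ← kline k' a b, add_right_comm, dd]
    simp only [phi, hd t20 t21, hd u20 u21, hd t30 t31, hd u30 u31, p8_comp]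
  -- the image is invariant under lifts of six transformations
  let M' : P8 → Prop := fun p => ∃ k : KK z Q g, phi (ρ k) = p
  have hconj : ∀ p ∈ sixList, ∀ k : KK z Q g, ∃ k' : KK z Q g, ∀ v,
      dd (ρ k') v = sg p.1 p.2 (dd (ρ k) (sg p.1 p.2 v)) := by
    intro p hp k
    obtain ⟨hq, hb, hcm⟩ := of_decide_eq_true (List.all_eq_true.1 six_table p hp)
    have hom : IsOm (sg p.1 p.2) := isOm_sg hq hb
    rcases P.lift M hom (fun v => by
      have := congrFun (ext_basis (f := fun v => sg p.1 p.2 (sg e0 e1 v))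
        (f' := fun v => sg e0 e1 (sg p.1 p.2 v)) (fun a b => by simp only [sg_add])
        (fun a b => by simp only [sg_add]) hcm) v
      rw [hf]; exact this) (fun v _ => by rw [bil_zero_right, bil_zero_right]) with
      ⟨c, hcz, hcx, hc⟩ | ⟨h, -⟩
    swap
    · exact absurd h hzx
    have hci := P.S.comm_inv hcz
    have hkz : c * (k : G) * c⁻¹ * z = z * (c * k * c⁻¹) := P.S.comm_mul (P.S.comm_mul hcz k.2.2) hci
    refine ⟨⟨c * k * c⁻¹, LargeExtra.conj_mem (P.loc'.norm (mem_centralizer_one.2 hcx)) k.2.1, hkz⟩,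
      fun v => ?_⟩
    have hinv : ρ c⁻¹ v = sg p.1 p.2 v := P.S.rho_inj hcz (by
      rw [← P.S.rho_mul hcz hci, mul_inv_cancel, P.S.rho_one, hc, sg_sg hq hb hb, CoT.add_self, sg_zero])
    show ρ (c * (k : G) * c⁻¹) v + v = _
    rw [P.S.rho_mul (P.S.comm_mul hcz k.2.2) hci, P.S.rho_mul hcz k.2.2, hinv, hc, dd, sg_add,
      sg_sg hq hb hb, CoT.add_self, sg_zero]
  have dadd : ∀ (k : KK z Q g) u v, dd (ρ k) (u + v) = dd (ρ k) u + dd (ρ k) v := fun k u v => by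
    simp only [dd, (P.KK_om k).add]
    abel
  obtain ⟨⟨i1, i2, i3, i4⟩, ⟨j1, j2, j3, j4⟩, ⟨m1, m2, m3, m4⟩, ⟨n₁, n₂, n₃, n₄⟩, ⟨r1, r2, r3, r4⟩,
    ⟨s1, s2, s3, s4⟩⟩ := six_images
  have hcl : Closed M' := by
    refine ⟨?_, ?_, ?_, ?_, ?_, ?_, ?_⟩
    · rintro p r ⟨k, rfl⟩ ⟨k', rfl⟩
      exact ⟨⟨(k : G) * k', mul_mem k.2.1 k'.2.1, P.S.comm_mul k.2.2 k'.2.2⟩, phi_mul k k'⟩
    · rintro p ⟨k, rfl⟩
      obtain ⟨k', hk'⟩ := hconj (e2, e3) (by simp [sixList]) k
      have la := kline k t20 t21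
      have lb := kline k u20 u21
      have lc := kline k t30 t31
      have ld := kline k u30 u31
      have e : d1 (phi (ρ k)) = phi (ρ k') + phi (ρ k) := by
        simp only [phi, d1, hk', i1, i2, i3, i4, dadd, sg_add, cu_add]
        rw [la, lb, lc, ld]
        simp only [six_line, Prod.mk_add_mk, F_add_self, F_sandwich, Prod.mk_zero_zero]
      exact e ▸ ⟨⟨(k' : G) * k, mul_mem k'.2.1 k.2.1, P.S.comm_mul k'.2.2 k.2.2⟩, phi_mul k' k⟩
    · rintro p ⟨k, rfl⟩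
      obtain ⟨k', hk'⟩ := hconj (e2, f3) (by simp [sixList]) k
      have la := kline k t20 t21
      have lb := kline k u20 u21
      have lc := kline k t30 t31
      have ld := kline k u30 u31
      have e : d2 (phi (ρ k)) = phi (ρ k') + phi (ρ k) := by
        simp only [phi, d2, hk', j1, j2, j3, j4, dadd, sg_add, cu_add]
        rw [la, lb, lc, ld]
        simp only [six_line, Prod.mk_add_mk, F_add_self, F_sandwich, Prod.mk_zero_zero]
      exact e ▸ ⟨⟨(k' : G) * k, mul_mem k'.2.1 k.2.1, P.S.comm_mul k'.2.2 k.2.2⟩, phi_mul k' k⟩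
    · rintro p ⟨k, rfl⟩
      obtain ⟨k', hk'⟩ := hconj (f2, e3) (by simp [sixList]) k
      have la := kline k t20 t21
      have lb := kline k u20 u21
      have lc := kline k t30 t31
      have ld := kline k u30 u31
      have e : d3 (phi (ρ k)) = phi (ρ k') + phi (ρ k) := by
        simp only [phi, d3, hk', m1, m2, m3, m4, dadd, sg_add, cu_add]
        rw [la, lb, lc, ld]
        simp only [six_line, Prod.mk_add_mk, F_add_self, F_sandwich, Prod.mk_zero_zero]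
      exact e ▸ ⟨⟨(k' : G) * k, mul_mem k'.2.1 k.2.1, P.S.comm_mul k'.2.2 k.2.2⟩, phi_mul k' k⟩
    · rintro p ⟨k, rfl⟩
      obtain ⟨k', hk'⟩ := hconj (f2, f3) (by simp [sixList]) k
      have la := kline k t20 t21
      have lb := kline k u20 u21
      have lc := kline k t30 t31
      have ld := kline k u30 u31
      have e : d4 (phi (ρ k)) = phi (ρ k') + phi (ρ k) := by
        simp only [phi, d4, hk', n₁, n₂, n₃, n₄, dadd, sg_add, cu_add]
        rw [la, lb, lc, ld]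
        simp only [six_line, Prod.mk_add_mk, F_add_self, F_sandwich, Prod.mk_zero_zero]
      exact e ▸ ⟨⟨(k' : G) * k, mul_mem k'.2.1 k.2.1, P.S.comm_mul k'.2.2 k.2.2⟩, phi_mul k' k⟩
    · rintro p ⟨k, rfl⟩
      obtain ⟨k', hk'⟩ := hconj (e0, f1) (by simp [sixList]) k
      have la := kline k t20 t21
      have lb := kline k u20 u21
      have lc := kline k t30 t31
      have ld := kline k u30 u31
      have e : n1 (phi (ρ k)) = phi (ρ k') + phi (ρ k) := by
        simp only [phi, n1, hk', r1, r2, r3, r4]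
        rw [la, lb, lc, ld]
        simp only [six_line, Prod.mk_add_mk, F_add_self, F_sandwich, Prod.mk_zero_zero]
      exact e ▸ ⟨⟨(k' : G) * k, mul_mem k'.2.1 k.2.1, P.S.comm_mul k'.2.2 k.2.2⟩, phi_mul k' k⟩
    · rintro p ⟨k, rfl⟩
      obtain ⟨k', hk'⟩ := hconj (e1, f0) (by simp [sixList]) k
      have la := kline k t20 t21
      have lb := kline k u20 u21
      have lc := kline k t30 t31
      have ld := kline k u30 u31
      have e : n2 (phi (ρ k)) = phi (ρ k') + phi (ρ k) := by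
        simp only [phi, n2, hk', s1, s2, s3, s4]
        rw [la, lb, lc, ld]
        simp only [six_line, Prod.mk_add_mk, F_add_self, F_sandwich, Prod.mk_zero_zero]
      exact e ▸ ⟨⟨(k' : G) * k, mul_mem k'.2.1 k.2.1, P.S.comm_mul k'.2.2 k.2.2⟩, phi_mul k' k⟩
  by_cases hz : ∀ k : KK z Q g, phi (ρ k) = 0
  · -- only the root element is left
    have kcases : ∀ k : KK z Q g, (∀ v, ρ k v = v) ∨ ρ k = ρ x := by
      intro k
      have hk := P.KK_om k
      have e := hz k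
      simp only [phi, Prod.ext_iff, Prod.fst_zero, Prod.snd_zero] at e
      have fixv : ∀ {v}, bil v e0 = 0 → bil v e1 = 0 → cu (dd (ρ k) v) = 0 → ρ k v = v :=
        fun {v} a b c => CoT.eq_of_add (by
          show dd (ρ k) v = 0
          rw [kline k a b, c, Prod.fst_zero, Prod.snd_zero, sm_zero, sm_zero, add_zero])
      have g2 := fixv t20 t21 (Prod.ext e.1.1 e.1.2)
      have h2 := fixv u20 u21 (Prod.ext e.2.1.1 e.2.1.2)
      have g3 := fixv t30 t31 (Prod.ext e.2.2.1.1 e.2.2.1.2)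
      have h3 := fixv u30 u31 (Prod.ext e.2.2.2.1 e.2.2.2.2)
      have mid : ∀ v, bil v e0 = 0 → bil v e1 = 0 → ρ k v = v := by
        intro v a b
        have hv : v = sm (bil v f0) e0 + sm (bil v f1) e1 + sm (bil v f2) e2 + sm (bil v e2) f2 +
            sm (bil v f3) e3 + sm (bil v e3) f3 := by
          revert v
          decide +kernel
        rw [hv]
        simp only [hk.add, hk.sm, kfix0, kfix1, g2, h2, g3, h3]
      have perp : ∀ u v, bil v e0 = 0 → bil v e1 = 0 → bil v (dd (ρ k) u) = 0 := by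
        intro u v a b
        rw [dd, bil_add_right]
        conv_lhs => enter [1, 1]; rw [← mid v a b]
        rw [IsIso.bil_eq ⟨hk.add, hk.q_eq⟩, F_add_self]
      have im : ∀ u, ∃ c d, ρ k u = u + (sm c e0 + sm d e1) := fun u => ⟨_, _, by
        rw [← line (perp u), dd, add_comm (ρ k u) u, ← add_assoc, CoT.add_self, zero_add]⟩
      obtain ⟨a, b, hfa⟩ := im f0
      obtain ⟨c, d, hfc⟩ := im f1
      have sol : ∀ a b c d : F, q (f0 + (sm a e0 + sm b e1)) = 0 → q (f1 + (sm c e0 + sm d e1)) = 0 →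
          bil (f0 + (sm a e0 + sm b e1)) (f1 + (sm c e0 + sm d e1)) = 0 → a = 0 ∧ d = 0 ∧ b = c := by
        decide +kernel
      obtain ⟨rfl, rfl, rfl⟩ := sol a b c d (by rw [← hfa, hk.q_eq, qf0]) (by rw [← hfc, hk.q_eq, qf1])
        (by rw [← hfa, ← hfc, IsIso.bil_eq ⟨hk.add, hk.q_eq⟩, bf])
      rw [sm_zero, zero_add] at hfa
      rw [sm_zero, add_zero] at hfc
      have hbas : ∀ b ∈ bas, b = f0 ∨ b = f1 ∨ (bil b e0 = 0 ∧ bil b e1 = 0) := by decide +kernel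
      rcases F_cases b with rfl | rfl
      · rw [sm_zero, add_zero] at hfa hfc
        refine Or.inl fun v => congrFun (ext_basis (f' := id) hk.add (fun _ _ => rfl) fun w hw => ?_) v
        rcases hbas w hw with rfl | rfl | ⟨h, h'⟩
        exacts [hfa, hfc, mid w h h']
      · rw [sm_one] at hfa hfc
        refine Or.inr (ext_basis hk.add P.isom.add fun w hw => ?_)
        rw [hf]
        rcases hbas w hw with rfl | rfl | ⟨h, h'⟩
        · rw [hfa, xf0]
        · rw [hfc, xf1]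
        · rw [mid w h h', sg_perp h, h', sm_zero, add_zero]
    classical
    have split : ∀ k : KK z Q g, ∃ (i : Bool) (w : G), w ∈ Q ∧ w ∈ cj g Q ∧
        (k : G) = w * (if i then x else 1) := by
      intro k
      rcases kcases k with h | h
      · exact ⟨false, k, (P.S.ker _ k.2.2).1 h, k.2.1, by simp⟩
      · refine ⟨true, (k : G) * x, (P.S.ker _ (P.S.comm_mul k.2.2 P.comm)).1 fun v => ?_,
          mul_mem k.2.1 P.loc'.mem, by simp [mul_assoc, P.xx]⟩
        rw [P.S.rho_mul k.2.2 P.comm, h, P.isom.inv]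
    choose i w hw hw' hi using split
    have h16 := P.card_KK
    have hle := Nat.card_le_card_of_injective (fun k : KK z Q g => (i k, cu (π (w k)))) fun a b e => by
      obtain ⟨e1', e2'⟩ := Prod.ext_iff.1 e
      simp only at e1' e2'
      have hπ : π (w a) = π (w b) := by rw [winter (hw a) (hw' a), winter (hw b) (hw' b), e2']
      have hw1 := P.inter_eq_one (mul_mem (inv_mem (hw a)) (hw b)) (mul_mem (inv_mem (hw' a)) (hw' b))
        (by rw [P.S.pi_mul _ (inv_mem (hw a)) _ (hw b), P.S.pi_inv (hw a), hπ, CoT.add_self])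
      exact Subtype.ext (by rw [hi a, hi b, e1', inv_mul_eq_one.1 hw1])
    rw [Nat.card_prod, Nat.card_prod, card_F, Nat.card_eq_fintype_card (α := Bool), Fintype.card_bool] at hle
    omega
  -- the image is everything
  push Not at hz
  obtain ⟨k, hk⟩ := hz
  have hM0 : M' 0 := ⟨⟨1, one_mem _, by simp⟩, by
    have h0 : ∀ v, dd (ρ (1 : G)) v = 0 := fun v => by rw [dd, P.S.rho_one, CoT.add_self]
    simp only [phi, h0]
    decide +kernel⟩
  have hall := hcl.all hM0 ⟨k, rfl⟩ hk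
  choose kp hkp using hall
  choose wc hwc hwc' hcu using wexists
  have hwk : ∀ c, ρ (wc c) = fun v => v := fun c => funext fun v => P.S.rho_Q (hwc c) v
  have inj : Function.Injective (fun p : P8 × (F × F) =>
      (⟨(kp p.1 : G) * wc p.2, mul_mem (kp p.1).2.1 (hwc' p.2)⟩ : cj g Q)) := by
    intro p r e
    have e' : (kp p.1 : G) * wc p.2 = kp r.1 * wc r.2 := congrArg Subtype.val e
    have hp : ∀ s : P8 × (F × F), ρ ((kp s.1 : G) * wc s.2) = ρ (kp s.1) := fun s => funext fun v => by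
      rw [P.S.rho_mul (kp s.1).2.2 (P.S.Qz (hwc s.2)), hwk]
    have e1' : p.1 = r.1 := by rw [← hkp p.1, ← hkp r.1, ← hp p, e', hp r]
    rw [e1'] at e'
    exact Prod.ext e1' (by rw [← hcu p.2, ← hcu r.2, mul_left_cancel e'])
  have h1 := Nat.card_le_card_of_injective _ inj
  rw [Nat.card_prod, P8_card, Nat.card_prod, card_F,
    card_map_of_injective (MulAut.conj g).injective, P.S.card] at h1
  omega

end Pr

end Cfsg.Agent.Co1NW
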