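import Cfsg.Agent.Lib.CoT.Upper

/-!
An involution weakly closed in the extraspecial core of its centralizer: pairs of commuting conjugates.
-/

set_option autoImplicit false
set_option linter.style.haveILetI false
set_option linter.unusedSectionVars false
set_option maxRecDepth 20000
set_option synthInstance.maxSize 4000
set_option synthInstance.maxHeartbeats 400000

namespace Cfsg.Agent.Co1NW

open Subgroup LargeExtra CoT

local notation "F" => ZMod 2

variable {G : Type*} [Group G] [Finite G] {z : G} {Q : Subgroup G} {π : G → V} {ρ : G → V → V}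

/-- The only conjugate of `z` in `Q` is `z`. -/
def Weak (z : G) (Q : Subgroup G) : Prop := ∀ g : G, g * z * g⁻¹ ∈ Q → g * z * g⁻¹ = z

/-- The image of a subgroup under conjugation. -/
abbrev cj (g : G) (Q : Subgroup G) : Subgroup G := Q.map (MulAut.conj g).toMonoidHom

theorem cj_cj (a b : G) : cj a (cj b Q) = cj (a * b) Q := by
  ext y
  rw [mem_conjMap, mem_conjMap, mem_conjMap]
  simp only [mul_inv_rev, mul_assoc]

theorem cj_one : cj 1 Q = Q := by
  ext y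
  rw [mem_conjMap]
  simp

theorem mem_cj {g a : G} : a ∈ cj g Q ↔ g⁻¹ * a * g ∈ Q := mem_conjMap

theorem zb_conj (g : G) (c : F) : g * zb z c * g⁻¹ = zb (g * z * g⁻¹) c := by
  rcases F_cases c with rfl | rfl <;> simp [zb_zero, zb_one]

theorem zb_inv {w : G} (hw : w * w = 1) (c : F) : (zb w c)⁻¹ = zb w c :=
  inv_eq_of_mul_eq_one_right (by rw [← zb_add hw, F_add_self, zb_zero])

theorem zb_inj {w : G} (hw : w ≠ 1) {c d : F} (h : zb w c = zb w d) : c = d := by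
  rcases F_cases c with rfl | rfl <;> rcases F_cases d with rfl | rfl <;> simp_all [zb_zero, zb_one]

/-- The setting at a conjugate. -/
theorem su_conj (S : Su z Q π ρ) (g : G) :
    Su (g * z * g⁻¹) (cj g Q) (fun a => π (g⁻¹ * a * g)) (fun h => ρ (g⁻¹ * h * g)) where
  loc := S.loc.conj g
  card := by rw [card_map_of_injective (MulAut.conj g).injective, S.card]
  pi_mul x hx y hy := by
    rw [← S.pi_mul _ (mem_cj.1 hx) _ (mem_cj.1 hy)]
    congr 1; group
  pi_eq x hx := by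
    rw [S.pi_eq _ (mem_cj.1 hx)]
    constructor <;> rintro (h | h)
    · left; calc x = g * (g⁻¹ * x * g) * g⁻¹ := by group
        _ = 1 := by rw [h]; group
    · right; calc x = g * (g⁻¹ * x * g) * g⁻¹ := by group
        _ = _ := by rw [h]
    · left; rw [h]; group
    · right; rw [h]; group
  pi_surj v := by
    obtain ⟨x, hx, rfl⟩ := S.pi_surj v
    exact ⟨g * x * g⁻¹, mem_cj.2 (by rwa [show g⁻¹ * (g * x * g⁻¹) * g = x by group]),
      congrArg π (by group)⟩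
  sq x hx := by
    rw [← zb_conj, ← S.sq _ (mem_cj.1 hx)]
    group
  conj h hh x hx := by
    have hh' : g⁻¹ * h * g * z = z * (g⁻¹ * h * g) := by
      calc g⁻¹ * h * g * z = g⁻¹ * (h * (g * z * g⁻¹)) * g := by group
        _ = g⁻¹ * (g * z * g⁻¹ * h) * g := by rw [hh]
        _ = _ := by group
    rw [← S.conj _ hh' _ (mem_cj.1 hx)]
    congr 1; group
  ker h hh := by
    rw [mem_cj]
    refine S.ker _ ?_
    calc g⁻¹ * h * g * z = g⁻¹ * (h * (g * z * g⁻¹)) * g := by group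
      _ = g⁻¹ * (g * z * g⁻¹ * h) * g := by rw [hh]
      _ = _ := by group
  om h hh := S.om _ (by
    calc g⁻¹ * h * g * z = g⁻¹ * (h * (g * z * g⁻¹)) * g := by group
      _ = g⁻¹ * (g * z * g⁻¹ * h) * g := by rw [hh]
      _ = _ := by group)
  lift f hf := by
    obtain ⟨h, hh, rfl⟩ := S.lift f hf
    refine ⟨g * h * g⁻¹, ?_, congrArg ρ (by group)⟩
    calc g * h * g⁻¹ * (g * z * g⁻¹) = g * (h * z) * g⁻¹ := by group
      _ = g * (z * h) * g⁻¹ := by rw [hh]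
      _ = _ := by group

theorem weak_conj (hw : Weak z Q) (g : G) : Weak (g * z * g⁻¹) (cj g Q) := by
  intro k hk
  have h := hw (g⁻¹ * k * g) (by
    have := mem_cj.1 hk
    rwa [show g⁻¹ * k * g * z * (g⁻¹ * k * g)⁻¹ = g⁻¹ * (k * (g * z * g⁻¹) * k⁻¹) * g by group])
  calc k * (g * z * g⁻¹) * k⁻¹ = g * (g⁻¹ * k * g * z * (g⁻¹ * k * g)⁻¹) * g⁻¹ := by group
    _ = _ := by rw [h]

theorem isOm_conj {τ f : V → V} (hadd : ∀ u v, τ (u + v) = τ u + τ v) (hq : ∀ v, q (τ v) = q v)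
    (hinv : ∀ v, τ (τ v) = v) (hf : IsOm f) : IsOm (fun v => τ (f (τ v))) := by
  obtain ⟨g, rfl⟩ := exists_app τ hadd hq hinv
  obtain ⟨h, hh, rfl⟩ := hf
  obtain ⟨χ, hker, -⟩ := exists_parity
  refine ⟨g * h * g, (hker _).2 ?_, funext fun v => by rw [app_mul, app_mul]⟩
  have hgg : g * g = 1 := app_inj (funext fun v => by rw [app_mul, app_one, hinv])
  rw [map_mul, map_mul, (hker h).1 hh, mul_one, ← map_mul, hgg, map_one]

/-- The setting with twisted coordinates. -/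
theorem su_twist (S : Su z Q π ρ) {τ : V → V} (hadd : ∀ u v, τ (u + v) = τ u + τ v)
    (hq : ∀ v, q (τ v) = q v) (hinv : ∀ v, τ (τ v) = v) :
    Su z Q (fun a => τ (π a)) (fun h v => τ (ρ h (τ v))) where
  loc := S.loc
  card := S.card
  pi_mul x hx y hy := by rw [S.pi_mul x hx y hy, hadd]
  pi_eq x hx := by
    rw [← S.pi_eq x hx]
    have h0 : τ 0 = 0 := by
      have h := hadd 0 0
      rw [add_zero] at h
      exact left_eq_add.1 h
    exact ⟨fun h => by rw [← hinv (π x), h, h0], fun h => by rw [h, h0]⟩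
  pi_surj v := by
    obtain ⟨x, hx, e⟩ := S.pi_surj (τ v)
    exact ⟨x, hx, by rw [e, hinv]⟩
  sq x hx := by rw [hq]; exact S.sq x hx
  conj h hh x hx := by rw [hinv, S.conj h hh x hx]
  ker h hh := by
    rw [← S.ker h hh]
    exact ⟨fun a v => by have := congrArg τ (a (τ v)); rwa [hinv, hinv] at this,
      fun a v => by rw [a, hinv]⟩
  om h hh := isOm_conj hadd hq hinv (S.om h hh)
  lift f hf := by
    obtain ⟨h, hh, e⟩ := S.lift _ (isOm_conj hadd hq hinv hf)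
    exact ⟨h, hh, funext fun v => by rw [e, hinv, hinv]⟩

/-- A commuting conjugate of a weakly closed involution. -/
structure Pr (z : G) (Q : Subgroup G) (π : G → V) (ρ : G → V → V) (g x : G) : Prop where
  S : Su z Q π ρ
  wk : Weak z Q
  hx : g * z * g⁻¹ = x
  comm : x * z = z * x
  ne : x ≠ z

namespace Pr

variable {g x : G} (P : Pr z Q π ρ g x)
include P

theorem zz : z * z = 1 := P.S.loc.sq

theorem xx : x * x = 1 := by
  rw [← P.hx, show g * z * g⁻¹ * (g * z * g⁻¹) = g * (z * z) * g⁻¹ by group, P.zz, mul_one,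
    mul_inv_cancel]

theorem x_inv : x⁻¹ = x := inv_eq_of_mul_eq_one_right P.xx

theorem x_ne_one : x ≠ 1 := fun h => P.S.loc.ne_one (by
  rw [← P.hx] at h
  exact conj_eq_one_iff.1 h)

theorem x_notMem : x ∉ Q := fun h => P.ne (by
  rw [← P.hx] at h ⊢
  exact P.wk g h)

theorem loc' : XSLocal (cj g Q) x := P.hx ▸ P.S.loc.conj g

theorem comm' {k : G} (hk : k ∈ cj g Q) : k * x = x * k := P.loc'.comm hk

theorem wk' {k : G} (h : k * z * k⁻¹ ∈ cj g Q) : k * z * k⁻¹ = x := by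
  have h1 := P.wk (g⁻¹ * k) (by
    have := mem_cj.1 h
    rwa [show g⁻¹ * k * z * (g⁻¹ * k)⁻¹ = g⁻¹ * (k * z * k⁻¹) * g by group])
  calc k * z * k⁻¹ = g * (g⁻¹ * k * z * (g⁻¹ * k)⁻¹) * g⁻¹ := by group
    _ = x := by rw [h1, P.hx]

theorem z_notMem : z ∉ cj g Q := fun h => P.ne (by
  have := P.wk' (k := 1) (by simpa using h)
  simpa using this.symm)

theorem swap : Pr x (cj g Q) (fun a => π (g⁻¹ * a * g)) (fun h => ρ (g⁻¹ * h * g)) g⁻¹ z where
  S := P.hx ▸ su_conj P.S g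
  wk := P.hx ▸ weak_conj P.wk g
  hx := by rw [← P.hx]; group
  comm := P.comm.symm
  ne := P.ne.symm

theorem cj_back : cj g⁻¹ (cj g Q) = Q := by rw [cj_cj, inv_mul_cancel, cj_one]

theorem isom : Isom (ρ x) :=
  isom_of (P.S.om x P.comm) (P.S.rho_invol P.comm (by rw [P.xx]; exact one_mem _))

theorem moves : ∃ v, ρ x v ≠ v := by
  by_contra h
  push Not at h
  exact P.x_notMem ((P.S.ker x P.comm).1 h)

theorem mem_conj {m : G} (hm : m ∈ Q) : x * m * x⁻¹ * m⁻¹ ∈ Q ∧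
    π (x * m * x⁻¹ * m⁻¹) = dd (ρ x) (π m) := by
  have h1 := P.S.conj_mem P.comm hm
  exact ⟨mul_mem h1 (inv_mem hm), by
    rw [P.S.pi_mul _ h1 _ (inv_mem hm), P.S.conj x P.comm m hm, P.S.pi_inv hm]; rfl⟩

theorem cm_cases {m : G} (hm : m ∈ Q) (h : dd (ρ x) (π m) = 0) :
    ∃ c : F, x * m * x⁻¹ = m * zb z c := by
  obtain ⟨h1, h2⟩ := P.mem_conj hm
  rcases (P.S.pi_eq _ h1).1 (h2.trans h) with e | e
  · exact ⟨0, by rw [zb_zero, mul_one]; exact mul_inv_eq_one.1 e⟩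
  · exact ⟨1, by rw [zb_one, mul_inv_eq_iff_eq_mul.1 e, P.S.Qz hm]⟩

end Pr

/-- A vector describing which elements of `Q` fixed modulo the centre commute with `x`. -/
structure Mu (z : G) (Q : Subgroup G) (π : G → V) (ρ : G → V → V) (x : G) (μ : V) : Prop where
  spec : ∀ m ∈ Q, dd (ρ x) (π m) = 0 → x * m * x⁻¹ = m * zb z (bil (π m) μ)
  dq : ∀ y, bil (dd (ρ x) y) μ = q (dd (ρ x) y)

namespace Pr

variable {g x : G} (P : Pr z Q π ρ g x)
include P

theorem exists_mu : ∃ μ, Mu z Q π ρ x μ := by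
  classical
  let T : V →ₗ[F] V := AddMonoidHom.toZModLinearMap 2 (AddMonoidHom.mk' (dd (ρ x)) P.isom.dd_add)
  have ex : ∀ v : LinearMap.ker T, ∃ c : F, ∀ m ∈ Q, π m = v → x * m * x⁻¹ = m * zb z c := by
    intro v
    obtain ⟨m, hm, e⟩ := P.S.pi_surj v
    obtain ⟨c, hc⟩ := P.cm_cases hm (by rw [e]; exact v.2)
    refine ⟨c, fun n hn en => ?_⟩
    rcases P.S.eq_of_pi hn hm (en.trans e.symm) with rfl | rfl
    · exact hc
    · calc x * (m * z) * x⁻¹ = (x * m * x⁻¹) * (x * z * x⁻¹) := by group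
        _ = m * zb z c * z := by rw [hc, P.S.zpi P.comm]
        _ = m * z * zb z c := by rw [mul_assoc, ← zb_comm (rfl : z * z = z * z), mul_assoc]
  choose φ hφ using ex
  have hadd : ∀ u v, φ (u + v) = φ u + φ v := by
    intro u v
    obtain ⟨a, ha, ea⟩ := P.S.pi_surj u
    obtain ⟨b, hb, eb⟩ := P.S.pi_surj v
    have h := hφ (u + v) (a * b) (mul_mem ha hb) (by rw [P.S.pi_mul a ha b hb, ea, eb]; rfl)
    rw [show x * (a * b) * x⁻¹ = (x * a * x⁻¹) * (x * b * x⁻¹) by group, hφ u a ha ea, hφ v b hb eb,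
      show a * zb z (φ u) * (b * zb z (φ v)) = a * (zb z (φ u) * b) * zb z (φ v) by group,
      ← zb_comm (P.S.Qz hb),
      show a * (b * zb z (φ u)) * zb z (φ v) = a * b * (zb z (φ u) * zb z (φ v)) by group,
      ← zb_add P.zz] at h
    exact (zb_inj P.S.loc.ne_one (mul_left_cancel h)).symm
  let L : LinearMap.ker T →ₗ[F] F := AddMonoidHom.toZModLinearMap 2 (AddMonoidHom.mk' φ hadd)
  obtain ⟨L', hL'⟩ := L.exists_extend
  refine ⟨repr fun v => L' v, ?_, ?_⟩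
  · intro m hm hd
    rw [← repr_spec (fun v => L' v) (fun u v => map_add L' u v) (π m)]
    have : L' (π m) = φ ⟨π m, hd⟩ := LinearMap.congr_fun hL' ⟨π m, hd⟩
    rw [this]
    exact hφ _ m hm rfl
  · intro y
    rw [← repr_spec (fun v => L' v) (fun u v => map_add L' u v) (dd (ρ x) y)]
    have hd : T (dd (ρ x) y) = 0 := P.isom.dd_dd y
    have : L' (dd (ρ x) y) = φ ⟨dd (ρ x) y, hd⟩ := LinearMap.congr_fun hL' ⟨dd (ρ x) y, hd⟩
    rw [this]
    obtain ⟨m, hm, rfl⟩ := P.S.pi_surj y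
    obtain ⟨h1, h2⟩ := P.mem_conj hm
    set d := x * m * x⁻¹ * m⁻¹ with hd'
    have hinv : x * d * x⁻¹ = d⁻¹ := by
      calc x * d * x⁻¹ = x * x * m * x⁻¹ * m⁻¹ * x⁻¹ := by rw [hd']; group
        _ = m * x⁻¹ * m⁻¹ * x⁻¹ := by rw [P.xx, one_mul]
        _ = d⁻¹ := by rw [hd', mul_inv_rev, mul_inv_rev, mul_inv_rev, inv_inv, inv_inv, P.x_inv]; group
    have hdd : d⁻¹ = d * zb z (q (π d)) := by
      refine inv_eq_of_mul_eq_one_right ?_
      rw [← mul_assoc, P.S.sq d h1, ← zb_add P.zz, F_add_self, zb_zero]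
    have h := hφ ⟨dd (ρ x) (π m), hd⟩ d h1 h2
    rw [hinv, hdd, h2] at h
    exact (zb_inj P.S.loc.ne_one (mul_left_cancel h)).symm

variable {μ : V} (M : Mu z Q π ρ x μ)
include M

theorem fixed {m : G} (hm : m ∈ Q) (h : m * x = x * m) :
    dd (ρ x) (π m) = 0 ∧ bil (π m) μ = 0 := by
  have hd : dd (ρ x) (π m) = 0 := by
    rw [← (P.mem_conj hm).2, show x * m * x⁻¹ * m⁻¹ = 1 by rw [← h]; group]
    exact P.S.pi_one
  refine ⟨hd, zb_inj P.S.loc.ne_one ((mul_left_cancel (a := m) ?_).trans (zb_zero z).symm)⟩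
  rw [← M.spec m hm hd, ← h, mul_one, mul_inv_cancel_right]

theorem exists_fixed {v : V} (h : dd (ρ x) v = 0) (h' : bil v μ = 0) :
    ∃ m ∈ Q, π m = v ∧ m * x = x * m := by
  obtain ⟨m, hm, rfl⟩ := P.S.pi_surj v
  refine ⟨m, hm, rfl, ?_⟩
  have := M.spec m hm h
  rw [h', zb_zero, mul_one] at this
  exact (mul_inv_eq_iff_eq_mul.1 this).symm

end Pr

theorem range_dual {f : V → V} (h : Isom f) {u : V} (hu : ∀ v, dd f v = 0 → bil v u = 0) :
    ∃ y, dd f y = u := by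
  by_contra hne
  let T : V →ₗ[F] V := AddMonoidHom.toZModLinearMap 2 (AddMonoidHom.mk' (dd f) h.dd_add)
  obtain ⟨l, hlu, hl⟩ := Submodule.exists_le_ker_of_notMem (p := LinearMap.range T) (v := u)
    (fun ⟨y, hy⟩ => hne ⟨y, hy⟩)
  set v := repr fun a => l a with hv
  have hspec : ∀ a, l a = bil a v := repr_spec (fun a => l a) (fun a b => map_add l a b)
  have hd : dd f v = 0 := bil_nondeg fun a => by
    rw [h.dd_bil, bil_comm, ← hspec]
    exact hl ⟨a, rfl⟩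
  exact hlu (by rw [hspec, bil_comm]; exact hu v hd)

namespace Pr

variable {g x : G} (P : Pr z Q π ρ g x)
include P

theorem conj_x (k : G) : ∃ l, l * z * l⁻¹ = k * x * k⁻¹ :=
  ⟨k * g, by rw [← P.hx]; group⟩

variable {w : G} (hw : w ∈ Q) (hw' : w ∈ cj g Q)
include hw hw'

theorem inter_comm : w * x = x * w := P.comm' hw'

theorem inter_eq_one (h : π w = 0) : w = 1 :=
  ((P.S.pi_eq w hw).1 h).resolve_right fun e => P.z_notMem (e ▸ hw')

theorem inter_sq : w * w = 1 :=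
  (P.S.loc.sq_cases hw).resolve_right fun e => P.z_notMem (e ▸ mul_mem hw' hw')

theorem inter_comm_left {r : G} (hr : r ∈ Q) (hrx : r * x = x * r) : r * w = w * r := by
  have h1 : r * w * r⁻¹ ∈ cj g Q :=
    LargeExtra.conj_mem (P.loc'.norm (mem_centralizer_one.2 hrx)) hw'
  rcases P.S.loc.conj_cases hr hw with e | e
  · exact mul_inv_eq_iff_eq_mul.1 e
  · exfalso
    rw [e] at h1
    have := mul_mem (inv_mem hw') h1
    rw [inv_mul_cancel_left] at this
    exact P.z_notMem this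

theorem inter_bil {μ : V} (M : Mu z Q π ρ x μ) {v : V} (h : dd (ρ x) v = 0) (h' : bil v μ = 0) :
    bil v (π w) = 0 := by
  obtain ⟨m, hm, rfl, hmx⟩ := P.exists_fixed M h h'
  exact (P.S.comm_iff hm hw).1 (P.inter_comm_left hw hw' hm hmx)

theorem inter_fix {μ : V} (M : Mu z Q π ρ x μ) : dd (ρ x) (π w) = 0 ∧ bil (π w) μ = 0 :=
  P.fixed M hw (P.inter_comm hw hw')

theorem inter_conj {c : G} (hcz : c * z = z * c) (hcx : c * x = x * c) :
    c * w * c⁻¹ ∈ Q ∧ c * w * c⁻¹ ∈ cj g Q :=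
  ⟨P.S.conj_mem hcz hw, LargeExtra.conj_mem (P.loc'.norm (mem_centralizer_one.2 hcx)) hw'⟩

/-- A non-trivial element of `Q ∩ Q'` over a difference forbids conjugacy of `z` and `zx`. -/
theorem inter_range (hzx : ∃ l, l * z * l⁻¹ = z * x) {y : V} (h : dd (ρ x) y = π w) : w = 1 := by
  obtain ⟨m, hm, rfl⟩ := P.S.pi_surj y
  obtain ⟨h1, h2⟩ := P.mem_conj hm
  have hxQ : x ∈ cj g Q := P.loc'.mem
  rcases P.S.eq_of_pi h1 hw (h2.trans h) with e | e
  · have e' : x * m * x⁻¹ = w * m := mul_inv_eq_iff_eq_mul.1 e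
    obtain ⟨l, hl⟩ := P.conj_x m⁻¹
    have hy : m⁻¹ * x * m = m⁻¹ * w * m * x := by
      calc m⁻¹ * x * m = m⁻¹ * (x * m * x⁻¹) * x := by group
        _ = _ := by rw [e']; group
    have hmw : m⁻¹ * w * m = w ∨ m⁻¹ * w * m = w * z := by
      simpa using P.S.loc.conj_cases (inv_mem hm) hw
    rcases hmw with a | a <;> rw [a] at hy
    · have h3 := P.wk' (k := l) (by rw [hl, inv_inv, hy]; exact mul_mem hw' hxQ)
      rw [hl, inv_inv, hy] at h3
      exact mul_eq_right.1 h3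
    · obtain ⟨k, hk⟩ := hzx
      have hmz : m⁻¹ * z * m = z := by
        rw [mul_assoc, ← P.S.Qz hm, inv_mul_cancel_left]
      have e2 : (m⁻¹ * k) * z * (m⁻¹ * k)⁻¹ = w * x := by
        calc (m⁻¹ * k) * z * (m⁻¹ * k)⁻¹ = m⁻¹ * (k * z * k⁻¹) * m := by group
          _ = m⁻¹ * z * m * (m⁻¹ * x * m) := by rw [hk]; group
          _ = z * (w * z * x) := by rw [hmz, hy]
          _ = z * z * (w * x) := by rw [P.S.Qz hw]; group
          _ = _ := by rw [P.zz, one_mul]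
      have h3 := P.wk' (k := m⁻¹ * k) (by rw [e2]; exact mul_mem hw' hxQ)
      rw [e2] at h3
      exact mul_eq_right.1 h3
  · have e' : x * m * x⁻¹ = w * z * m := mul_inv_eq_iff_eq_mul.1 e
    obtain ⟨l, hl⟩ := P.conj_x m⁻¹
    have hy : m⁻¹ * x * m = m⁻¹ * (w * z) * m * x := by
      calc m⁻¹ * x * m = m⁻¹ * (x * m * x⁻¹) * x := by group
        _ = _ := by rw [e']; group
    have hmw : m⁻¹ * w * m = w ∨ m⁻¹ * w * m = w * z := by
      simpa using P.S.loc.conj_cases (inv_mem hm) hw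
    have hmz : m⁻¹ * z * m = z := by rw [mul_assoc, ← P.S.Qz hm, inv_mul_cancel_left]
    rw [show m⁻¹ * (w * z) * m = (m⁻¹ * w * m) * (m⁻¹ * z * m) by group, hmz] at hy
    rcases hmw with a | a <;> rw [a] at hy
    · obtain ⟨k, hk⟩ := hzx
      have e2 : (m⁻¹ * k) * z * (m⁻¹ * k)⁻¹ = w * x := by
        calc (m⁻¹ * k) * z * (m⁻¹ * k)⁻¹ = m⁻¹ * (k * z * k⁻¹) * m := by group
          _ = m⁻¹ * z * m * (m⁻¹ * x * m) := by rw [hk]; group
          _ = z * (w * z * x) := by rw [hmz, hy]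
          _ = z * z * (w * x) := by rw [P.S.Qz hw]; group
          _ = _ := by rw [P.zz, one_mul]
      have h3 := P.wk' (k := m⁻¹ * k) (by rw [e2]; exact mul_mem hw' hxQ)
      rw [e2] at h3
      exact mul_eq_right.1 h3
    · rw [mul_assoc w z z, P.zz, mul_one] at hy
      have h3 := P.wk' (k := l) (by rw [hl, inv_inv, hy]; exact mul_mem hw' hxQ)
      rw [hl, inv_inv, hy] at h3
      exact mul_eq_right.1 h3

end Pr

namespace Pr

variable {g x : G} (P : Pr z Q π ρ g x) {μ : V} (M : Mu z Q π ρ x μ)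
include P M

/-- A fixed element not commuting with `x` makes `z x` conjugate to `z`. -/
theorem zx_of_mu {v : V} (h : dd (ρ x) v = 0) (h' : bil v μ = 1) : ∃ l, l * z * l⁻¹ = z * x := by
  obtain ⟨m, hm, rfl⟩ := P.S.pi_surj v
  have e := M.spec m hm h
  rw [h', zb_one] at e
  obtain ⟨l, hl⟩ := P.conj_x m⁻¹
  refine ⟨l, hl.trans ?_⟩
  calc m⁻¹ * x * m⁻¹⁻¹ = m⁻¹ * (x * m * x⁻¹) * x := by group
    _ = _ := by rw [e]; group

/-- Lifting an isometry that fixes the data of `x` to the common centraliser. -/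
theorem lift {k : V → V} (hk : IsOm k) (hkf : ∀ v, k (ρ x v) = ρ x (k v))
    (hkμ : ∀ v, dd (ρ x) v = 0 → bil (k v) μ = bil v μ) :
    (∃ c, c * z = z * c ∧ c * x = x * c ∧ ρ c = k) ∨
      ((∃ l, l * z * l⁻¹ = z * x) ∧ ∀ v, dd (ρ x) v = 0 → bil v μ = 0) := by
  have hf := P.isom
  obtain ⟨h, hh, rfl⟩ := P.S.lift k hk
  have hhi := P.S.comm_inv hh
  set x' := h * x * h⁻¹ with hx'
  have hx'z : x' * z = z * x' := P.S.comm_mul (P.S.comm_mul hh P.comm) hhi
  set m := x' * x with hm'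
  have hmz : m * z = z * m := P.S.comm_mul hx'z P.comm
  have hρx' : ∀ v, ρ x' v = ρ x v := fun v => by
    rw [hx', P.S.rho_mul (P.S.comm_mul hh P.comm) hhi, P.S.rho_mul hh P.comm, hkf,
      ← P.S.rho_mul hh hhi, mul_inv_cancel, P.S.rho_one]
  have hm : m ∈ Q := (P.S.ker m hmz).1 fun v => by
    rw [hm', P.S.rho_mul hx'z P.comm, hρx', hf.inv]
  have hx'e : x' = m * x := by rw [hm', mul_assoc, P.xx, mul_one]
  have hx'2 : x' * x' = 1 := by
    rw [hx', show h * x * h⁻¹ * (h * x * h⁻¹) = h * (x * x) * h⁻¹ by group, P.xx, mul_one,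
      mul_inv_cancel]
  have hmd : dd (ρ x) (π m) = 0 := by
    have h1 : x * m * x⁻¹ = m⁻¹ := by
      rw [hx'e] at hx'2
      rw [P.x_inv]
      exact (inv_eq_of_mul_eq_one_right (by rw [← hx'2]; group)).symm
    rw [dd, ← P.S.conj x P.comm m hm, h1, P.S.pi_inv hm, CoT.add_self]
  have hperp : ∀ v, dd (ρ x) v = 0 → bil v (π m) = 0 := by
    intro v hv
    obtain ⟨n, hn, rfl⟩ := P.S.pi_surj v
    obtain ⟨n₂, hn₂, e₂⟩ : ∃ n₂ ∈ Q, π n₂ = ρ h⁻¹ (π n) :=
      ⟨h⁻¹ * n * h, by simpa using P.S.conj_mem hhi hn, by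
        have := P.S.conj h⁻¹ hhi n hn
        rwa [inv_inv] at this⟩
    have hv₂ : dd (ρ x) (π n₂) = 0 := by
      refine P.S.rho_inj hh ?_
      rw [P.S.rho_zero hh, e₂, dd, P.S.rho_add hh, hkf, ← P.S.rho_mul hh hhi, mul_inv_cancel,
        P.S.rho_one]
      exact hv
    set n₂' := h * n₂ * h⁻¹ with hn₂'
    have hn₂'Q : n₂' ∈ Q := P.S.conj_mem hh hn₂
    have hn₂'π : π n₂' = π n := by
      rw [hn₂', P.S.conj h hh n₂ hn₂, e₂, ← P.S.rho_mul hh hhi, mul_inv_cancel, P.S.rho_one]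
    have b1 : x' * n₂' * x'⁻¹ = n₂' * zb z (bil (π n₂) μ) := by
      calc x' * n₂' * x'⁻¹ = h * (x * n₂ * x⁻¹) * h⁻¹ := by rw [hx', hn₂']; group
        _ = h * n₂ * (zb z (bil (π n₂) μ) * h⁻¹) := by rw [M.spec n₂ hn₂ hv₂]; group
        _ = _ := by rw [← zb_comm hhi, hn₂', ← mul_assoc]
    have b2 : x' * n₂' * x'⁻¹ = n₂' * zb z (bil (π m) (π n₂') + bil (π n₂') μ) := by
      calc x' * n₂' * x'⁻¹ = m * (x * n₂' * x⁻¹) * m⁻¹ := by rw [hx'e]; group
        _ = m * n₂' * (zb z (bil (π n₂') μ) * m⁻¹) := by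
            rw [M.spec n₂' hn₂'Q (by rw [hn₂'π]; exact hv)]; group
        _ = (m * n₂' * m⁻¹) * zb z (bil (π n₂') μ) := by
            rw [← zb_comm (P.S.Qz (inv_mem hm)), ← mul_assoc]
        _ = _ := by rw [P.S.conj_Q hm hn₂'Q, zb_add P.zz, mul_assoc]
    rw [b1] at b2
    have h5 := zb_inj P.S.loc.ne_one (mul_left_cancel b2)
    rw [hn₂'π, show bil (π n₂) μ = bil (π n) μ by
      rw [e₂]
      conv_rhs => rw [← P.S.rho_one (π n), ← mul_inv_cancel h, P.S.rho_mul hh hhi]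
      exact (hkμ _ (by rw [← e₂]; exact hv₂)).symm] at h5
    rw [bil_comm]
    exact add_eq_right.1 h5.symm
  obtain ⟨y, hy⟩ := range_dual hf hperp
  obtain ⟨n, hn, rfl⟩ := P.S.pi_surj y
  obtain ⟨d1, d2⟩ := P.mem_conj hn
  have hd : π (x * n * x⁻¹ * n⁻¹)⁻¹ = π m := by rw [P.S.pi_inv d1, d2, hy]
  have hnx : n * x * n⁻¹ = (x * n * x⁻¹ * n⁻¹)⁻¹ * x := by group
  have hρn : ∀ a : G, a ∈ Q → ρ (a * h) = ρ h := fun a ha => funext fun v => by
    rw [P.S.rho_mul (P.S.Qz ha) hh, P.S.rho_Q ha]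
  have cfix : ∀ a : G, a ∈ Q → a * x' * a⁻¹ = x → ∃ c, c * z = z * c ∧ c * x = x * c ∧ ρ c = ρ h := by
    intro a ha e
    refine ⟨a * h, P.S.comm_mul (P.S.Qz ha) hh, ?_, hρn a ha⟩
    conv_rhs => rw [← e, hx']
    group
  rcases P.S.eq_of_pi hm (inv_mem d1) hd.symm with e | e
  · exact Or.inl (cfix n⁻¹ (inv_mem hn) (by rw [hx'e, e, ← hnx]; group))
  · have hx'f : x' = n * (z * x) * n⁻¹ := by
      calc x' = (x * n * x⁻¹ * n⁻¹)⁻¹ * z * x := by rw [hx'e, e]
        _ = z * ((x * n * x⁻¹ * n⁻¹)⁻¹ * x) := by rw [P.S.Qz (inv_mem d1), mul_assoc]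
        _ = z * (n * x * n⁻¹) := by rw [hnx]
        _ = (z * n) * x * n⁻¹ := by group
        _ = _ := by rw [← P.S.Qz hn]; group
    have hzx : ∃ l, l * z * l⁻¹ = z * x := by
      obtain ⟨l, hl⟩ := P.conj_x (n⁻¹ * h)
      refine ⟨l, hl.trans ?_⟩
      calc n⁻¹ * h * x * (n⁻¹ * h)⁻¹ = n⁻¹ * x' * n := by rw [hx']; group
        _ = _ := by rw [hx'f]; group
    by_cases hμ : ∀ v, dd (ρ x) v = 0 → bil v μ = 0
    · exact Or.inr ⟨hzx, hμ⟩
    push Not at hμ
    obtain ⟨v, hv, hv'⟩ := hμ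
    obtain ⟨n0, hn0, rfl⟩ := P.S.pi_surj v
    have e0 := M.spec n0 hn0 hv
    rw [(F_cases _).resolve_left hv', zb_one] at e0
    refine Or.inl (cfix (n0 * n⁻¹) (mul_mem hn0 (inv_mem hn)) ?_)
    have e1 : n0⁻¹ * x * n0 = z * x := by
      calc n0⁻¹ * x * n0 = n0⁻¹ * (x * n0 * x⁻¹) * x := by group
        _ = _ := by rw [e0]; group
    calc n0 * n⁻¹ * x' * (n0 * n⁻¹)⁻¹ = n0 * (z * x) * n0⁻¹ := by rw [hx'f]; group
      _ = x := by rw [← e1]; group

end Pr

end Cfsg.Agent.Co1NW
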