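import Cfsg.Agent.Lib.Co1Recog.NonWeak.Reps

/-!
Conjugates with a two-dimensional commutator space: only root pairs survive.
-/

set_option autoImplicit false
set_option linter.style.haveILetI false
set_option linter.unusedSectionVars false
set_option maxRecDepth 20000
set_option maxHeartbeats 1000000
set_option synthInstance.maxSize 4000
set_option synthInstance.maxHeartbeats 400000

namespace Cfsg.Agent.Co1NW

open Subgroup LargeExtra CoT

local notation "F" => ZMod 2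

variable {G : Type*} [Group G] [Finite G] {z : G} {Q : Subgroup G} {π : G → V} {ρ : G → V → V}

/-- A pair whose cores meet in a four-group over a totally singular line. -/
structure IsRoot (z : G) (Q : Subgroup G) (π : G → V) (ρ : G → V → V) (g x : G) : Prop where
  form : ρ x = sg e0 e1
  mu : Mu z Q π ρ x 0
  w0 : ∃ w, w ∈ Q ∧ w ∈ cj g Q ∧ π w = e0
  w1 : ∃ w, w ∈ Q ∧ w ∈ cj g Q ∧ π w = e1

theorem ker_e1 : ∀ v : V, sg e0 e1 v + v = 0 ↔ bil v e0 = 0 ∧ bil v e1 = 0 := by decide +kernel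

theorem ker_a0 : ∀ v : V, sg e0 a0 v + v = 0 ↔ bil v e0 = 0 ∧ bil v a0 = 0 := by decide +kernel

theorem two_facts : q e0 = 0 ∧ e0 ≠ 0 ∧ bil e1 e0 = 0 ∧ bil a0 e0 = 0 ∧ q a0 = 1 ∧
    bil f0 e0 = 1 ∧ bil f0 e1 = 0 ∧ bil f1 e0 = 0 ∧ bil f1 e1 = 1 ∧ q e1 = 0 ∧ bil e0 e1 = 0 ∧
    sg e0 e1 f1 + f1 = e0 ∧ sg e0 e1 f0 + f0 = e1 ∧ sg e0 a0 e1 + e1 = e0 ∧
    sg e0 a0 f0 + f0 = a0 + e0 := by decide +kernel

/-- A three-term combination. -/
def comb (p : F × F × F) (a b c : V) : V := sm p.1 a + sm p.2.1 b + sm p.2.2 c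

/-- The form on a combination of `e0`, `b`, `μ`, where `β = q b` and `γ = q μ`. -/
def qc (β γ : F) (p : F × F × F) : F := p.2.1 * β + p.2.2 * γ + p.2.1 * p.2.2 * β

/-- The polar form on two combinations. -/
def bc (β : F) (p r : F × F × F) : F := β * (p.2.1 * r.2.2 + p.2.2 * r.2.1)

/-- The candidate images of three vectors dual to `e0`, `b`, `μ`; `δ` says whether `μ` is present. -/
def good (β γ δ : F) : Finset ((F × F × F) × (F × F × F) × (F × F × F)) :=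
  Finset.univ.filter fun p =>
    qc β γ p.1 + p.1.1 = 0 ∧ qc β γ p.2.1 + p.2.1.2.1 = 0 ∧ qc β γ p.2.2 + δ * p.2.2.2.2 = 0 ∧
    p.2.1.1 + p.1.2.1 + bc β p.1 p.2.1 = 0 ∧
    p.2.2.1 + δ * p.1.2.2 + bc β p.1 p.2.2 = 0 ∧
    p.2.2.2.1 + δ * p.2.1.2.2 + bc β p.2.1 p.2.2 = 0 ∧
    (δ = 0 → p.1.2.2 = 0 ∧ p.2.1.2.2 = 0 ∧ p.2.2 = 0)

theorem card_good : ∀ β γ δ : F, (δ = 0 → β = 0 ∧ γ = 0) →
    (good β γ δ).card < 16 ∨ (γ = 1 ∧ (good β γ δ).card < 32) := by decide +kernel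

theorem qc_spec {b μ : V} (hb : bil e0 b = 0) (hμ : bil e0 μ = 0) (hbμ : bil b μ = q b)
    (p : F × F × F) : q (comb p e0 b μ) = qc (q b) (q μ) p := by
  rw [comb, q_add, q_add, q_sm, q_sm, q_sm, bil_add_left, bil_sm_left, bil_sm_left, bil_sm_left,
    bil_sm_right, bil_sm_right, bil_sm_right, hb, hμ, hbμ, show q e0 = 0 from base_facts.1, qc]
  ring

theorem bc_spec {b μ : V} (hb : bil e0 b = 0) (hμ : bil e0 μ = 0) (hbμ : bil b μ = q b)
    (p r : F × F × F) : bil (comb p e0 b μ) (comb r e0 b μ) = bc (q b) p r := by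
  simp only [comb, bil_add_left, bil_add_right, bil_sm_left, bil_sm_right, CoT.bil_self,
    CoT.bil_comm b e0, CoT.bil_comm μ e0, CoT.bil_comm μ b, hb, hμ, hbμ, bc]
  ring

theorem F_move : ∀ a b c d e : F, a + b + (c + d) + e = a ↔ (b + c + d + e = 0) := by decide +kernel

theorem F_move₁ : ∀ a b c : F, a + b + c = a ↔ (b + c = 0) := by decide +kernel

/-- The projection to the orthogonal space of three vectors. -/
def dec3 (a c : V × V × V) (v : V) : V := v + comb (bil v a.1, bil v a.2.1, bil v a.2.2) c.1 c.2.1 c.2.2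

/-- The representatives for `μ` with duals, for `b = e1`. -/
def tabE : List (V × V × V × V) :=
  [(e2, f0, f1, f2), (f2, f0, f1, e2), (e2 + f2, f0, f1, e2), (e3, f0, f1, f3), (e2 + e3, f0, f1, f2),
   (f2 + e3, f0, f1, e2), (e2 + f2 + e3, f0, f1, e2), (f3, f0, f1, e3), (e2 + f3, f0, f1, f2),
   (f2 + f3, f0, f1, e2), (e2 + f2 + f3, f0, f1, e2), (e3 + f3, f0, f1, e3), (e2 + e3 + f3, f0, f1, f2),
   (f2 + e3 + f3, f0, f1, e2), (e2 + f2 + e3 + f3, f0, f1, e2), (0, f0, f1, 0)]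

/-- The representatives for `μ` with duals, for `b = a0`. -/
def tabA : List (V × V × V × V) :=
  [(e1, f0, e1, e1 + f1), (e1 + e2, f0, e1, f2), (e1 + f2, f0, e1, e2), (e1 + e2 + f2, f0, e1, e2),
   (e1 + e3, f0, e1, f3), (e1 + e2 + e3, f0, e1, f2), (e1 + f2 + e3, f0, e1, e2),
   (e1 + e2 + f2 + e3, f0, e1, e2), (e1 + f3, f0, e1, e3), (e1 + e2 + f3, f0, e1, f2),
   (e1 + f2 + f3, f0, e1, e2), (e1 + e2 + f2 + f3, f0, e1, e2), (e1 + e3 + f3, f0, e1, e3),
   (e1 + e2 + e3 + f3, f0, e1, f2), (e1 + f2 + e3 + f3, f0, e1, e2),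
   (e1 + e2 + f2 + e3 + f3, f0, e1, e2)]

theorem tabE_cover : ∀ μ : V, bil e0 μ = 0 → bil e1 μ = 0 →
    ∃ t ∈ tabE, μ + t.1 = 0 ∨ μ + t.1 = e0 ∨ μ + t.1 = e1 ∨ μ + t.1 = e0 + e1 := by
  have h : ∀ μ : V, bil e0 μ = 0 → bil e1 μ = 0 → (tabE.any fun t =>
      decide (μ + t.1 = 0 ∨ μ + t.1 = e0 ∨ μ + t.1 = e1 ∨ μ + t.1 = e0 + e1)) = true := by decide +kernel
  intro μ a b
  obtain ⟨t, ht, e⟩ := List.any_eq_true.1 (h μ a b)
  exact ⟨t, ht, of_decide_eq_true e⟩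

theorem tabA_cover : ∀ μ : V, bil e0 μ = 0 → bil a0 μ = 1 →
    ∃ t ∈ tabA, μ + t.1 = 0 ∨ μ + t.1 = e0 ∨ μ + t.1 = a0 ∨ μ + t.1 = e0 + a0 := by
  have h : ∀ μ : V, bil e0 μ = 0 → bil a0 μ = 1 → (tabA.any fun t =>
      decide (μ + t.1 = 0 ∨ μ + t.1 = e0 ∨ μ + t.1 = a0 ∨ μ + t.1 = e0 + a0)) = true := by decide +kernel
  intro μ a b
  obtain ⟨t, ht, e⟩ := List.any_eq_true.1 (h μ a b)
  exact ⟨t, ht, of_decide_eq_true e⟩

/-- The duality conditions behind `dec3`. -/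
def Dual (a c : V × V × V) : Prop :=
  (bil c.1 a.1 = 1 ∧ bil c.2.1 a.1 = 0 ∧ bil c.2.2 a.1 = 0) ∧
    (bil c.1 a.2.1 = 0 ∧ bil c.2.1 a.2.1 = 1 ∧ bil c.2.2 a.2.1 = 0) ∧
      (a.2.2 = 0 ∨ bil c.1 a.2.2 = 0 ∧ bil c.2.1 a.2.2 = 0 ∧ bil c.2.2 a.2.2 = 1)

instance (a c : V × V × V) : Decidable (Dual a c) := by unfold Dual; infer_instance

theorem Dual.dec {a c : V × V × V} (h : Dual a c) (v : V) :
    bil (dec3 a c v) a.1 = 0 ∧ bil (dec3 a c v) a.2.1 = 0 ∧ bil (dec3 a c v) a.2.2 = 0 := by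
  obtain ⟨⟨h1, h2, h3⟩, ⟨k1, k2, k3⟩, h'⟩ := h
  simp only [dec3, comb, bil_add_left, bil_sm_left, h1, h2, h3, k1, k2, k3, mul_one, mul_zero,
    add_zero, zero_add, F_add_self, true_and]
  rcases h' with e | ⟨l1, l2, l3⟩
  · simp only [e, bil_zero_right, mul_zero, add_zero]
  · simp only [l1, l2, l3, mul_one, mul_zero, zero_add, F_add_self]

theorem tabE_dual (t : V × V × V × V) (ht : t ∈ tabE) : Dual (e0, e1, t.1) t.2 := by
  have h : (tabE.all fun t => decide (Dual (e0, e1, t.1) t.2)) = true := by decide +kernel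
  exact of_decide_eq_true (List.all_eq_true.1 h t ht)

theorem tabA_dual (t : V × V × V × V) (ht : t ∈ tabA) : Dual (e0, a0, t.1) t.2 := by
  have h : (tabA.all fun t => decide (Dual (e0, a0, t.1) t.2)) = true := by decide +kernel
  exact of_decide_eq_true (List.all_eq_true.1 h t ht)

theorem tabE_data (t : V × V × V × V) (ht : t ∈ tabE) : t.1 ≠ 0 → bil e0 t.1 = 0 ∧ bil e1 t.1 = 0 ∧
    (bil t.2.1 t.1 = 0 ∧ bil t.2.2.1 t.1 = 0) ∧ bil t.2.2.2 t.1 = 1 := by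
  have h : (tabE.all fun t => decide (t.1 ≠ 0 → bil e0 t.1 = 0 ∧ bil e1 t.1 = 0 ∧
    (bil t.2.1 t.1 = 0 ∧ bil t.2.2.1 t.1 = 0) ∧ bil t.2.2.2 t.1 = 1)) = true := by decide +kernel
  exact of_decide_eq_true (List.all_eq_true.1 h t ht)

theorem tabA_data (t : V × V × V × V) (ht : t ∈ tabA) : bil e0 t.1 = 0 ∧ bil a0 t.1 = 1 ∧
    (bil t.2.1 t.1 = 0 ∧ bil t.2.2.1 t.1 = 0) ∧ bil t.2.2.2 t.1 = 1 := by
  have h : (tabA.all fun t => decide (bil e0 t.1 = 0 ∧ bil a0 t.1 = 1 ∧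
    (bil t.2.1 t.1 = 0 ∧ bil t.2.2.1 t.1 = 0) ∧ bil t.2.2.2 t.1 = 1)) = true := by decide +kernel
  exact of_decide_eq_true (List.all_eq_true.1 h t ht)

theorem tabE_dec (t : V × V × V × V) (ht : t ∈ tabE) (v : V) :
    bil (dec3 (e0, e1, t.1) t.2 v) e0 = 0 ∧ bil (dec3 (e0, e1, t.1) t.2 v) e1 = 0 ∧
      bil (dec3 (e0, e1, t.1) t.2 v) t.1 = 0 := (tabE_dual t ht).dec v

theorem tabA_dec (t : V × V × V × V) (ht : t ∈ tabA) (v : V) :
    bil (dec3 (e0, a0, t.1) t.2 v) e0 = 0 ∧ bil (dec3 (e0, a0, t.1) t.2 v) a0 = 0 ∧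
      bil (dec3 (e0, a0, t.1) t.2 v) t.1 = 0 := (tabA_dual t ht).dec v

/-- The vectors orthogonal to the fixed space of a three-vector projection. -/
theorem eq_comb {a c : V × V × V}
    (hdec : ∀ v, bil (dec3 a c v) a.1 = 0 ∧ bil (dec3 a c v) a.2.1 = 0 ∧ bil (dec3 a c v) a.2.2 = 0)
    {u : V} (hu : ∀ v, bil v a.1 = 0 → bil v a.2.1 = 0 → bil v a.2.2 = 0 → bil v u = 0) :
    u = comb (bil u c.1, bil u c.2.1, bil u c.2.2) a.1 a.2.1 a.2.2 := by
  refine eq_of_perp_eq fun v => ?_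
  obtain ⟨h1, h2, h3⟩ := hdec v
  have h := hu _ h1 h2 h3
  have h0 := F_eq_of_add _ _ (show bil v u + bil (comb (bil v a.1, bil v a.2.1, bil v a.2.2) c.1 c.2.1 c.2.2) u = 0
    by rwa [dec3, bil_add_left] at h)
  rw [h0]
  simp only [comb, bil_add_left, bil_add_right, bil_sm_left, bil_sm_right, CoT.bil_comm c.1 u,
    CoT.bil_comm c.2.1 u, CoT.bil_comm c.2.2 u]
  ring

theorem dual0 : Dual (e0, e1, (0 : V)) (f0, f1, (0 : V)) := by decide +kernel

theorem eq_comb01 {u : V} (hu : ∀ v, bil v e0 = 0 → bil v e1 = 0 → bil v u = 0) :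
    u = comb (bil u f0, bil u f1, bil u 0) e0 e1 0 :=
  eq_comb (a := (e0, e1, (0 : V))) (c := (f0, f1, (0 : V))) dual0.dec fun v a c _ => hu v a c

namespace Pr

variable {g x : G} (P : Pr z Q π ρ g x) {μ : V} (M : Mu z Q π ρ x μ)
include P M

/-- Moving an element of `Q ∩ Q'` by a Siegel transformation. -/
theorem moved {e b : V} (hf : ρ x = sg e b) (he : q e = 0) (hb : bil b e = 0)
    (hperp : ∀ v, dd (ρ x) v = 0 → bil v e = 0) (heμ : bil e μ = 0)
    {w : G} (hw : w ∈ Q) (hw' : w ∈ cj g Q) {u : V} (hu : bil u e = 0) :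
    (∃ w₂, w₂ ∈ Q ∧ w₂ ∈ cj g Q ∧ π w₂ = sm (bil (π w) u) e) ∨
      ((∃ l, l * z * l⁻¹ = z * x) ∧ ∀ v, dd (ρ x) v = 0 → bil v μ = 0) := by
  rcases P.lift M (isOm_sg (v := u) he hu)
    (fun v => by rw [hf, sg_sg he hu hb, sg_sg he hb hu, add_comm b u])
    (fun v hv => by rw [sg_perp (hperp v hv), bil_add_left, bil_sm_left, heμ, mul_zero, add_zero])
    with ⟨c, hcz, hcx, hc⟩ | h
  · left
    obtain ⟨h1, h2⟩ := P.inter_conj hw hw' hcz hcx
    refine ⟨c * w * c⁻¹ * w, mul_mem h1 hw, mul_mem h2 hw', ?_⟩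
    rw [P.S.pi_mul _ h1 _ hw, P.S.conj c hcz w hw, hc,
      sg_perp (hperp _ (P.inter_fix hw hw' M).1), add_right_comm, CoT.add_self, zero_add]
  · exact Or.inr h

/-- Size contradiction. -/
theorem false_of_table (hW : ∀ w ∈ Q, w ∈ cj g Q → w = 1) {b : V} {t : V × V × V × V} {δ : F}
    (hker : ∀ v, dd (ρ x) v = 0 ↔ bil v e0 = 0 ∧ bil v b = 0)
    (hμ : ∀ v, bil v e0 = 0 → bil v b = 0 → bil v μ = bil v t.1) (hq : q t.1 = q μ)
    (hb : bil e0 b = 0) (hm : bil e0 t.1 = 0) (hbm : bil b t.1 = q b)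
    (hd : Dual (e0, b, t.1) t.2) (hδ : bil t.2.2.2 t.1 = δ) (hm12 : bil t.2.1 t.1 = 0 ∧ bil t.2.2.1 t.1 = 0)
    (hδ0 : δ = 0 → t.1 = 0 ∧ t.2.2.2 = 0 ∧ q b = 0) : False := by
  have hdec := hd.dec
  obtain ⟨⟨d11, d21, d31⟩, ⟨d12, d22, d32⟩, -⟩ := hd
  obtain ⟨d13, d23⟩ := hm12
  have fixR : ∀ k : V → V, (∀ v, dd (ρ x) v = 0 → bil v μ = 0 → k v = v) →
      ∀ v, bil v e0 = 0 → bil v b = 0 → bil v t.1 = 0 → k v = v :=
    fun k h v a c d => h v ((hker v).2 ⟨a, c⟩) (by rw [hμ v a c, d])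
  have img : ∀ k : V → V, IsIso k → (∀ v, dd (ρ x) v = 0 → bil v μ = 0 → k v = v) → ∀ c,
      k c = c + comb (bil (dd k c) t.2.1, bil (dd k c) t.2.2.1, bil (dd k c) t.2.2.2) e0 b t.1 := by
    intro k hk h c
    rw [← eq_comb (a := (e0, b, t.1)) hdec fun v a a' d => ?_, dd, add_comm (k c) c, ← add_assoc,
      CoT.add_self, zero_add]
    rw [dd, bil_add_right]
    conv_lhs => enter [1, 1]; rw [← fixR k h v a a' d]
    rw [hk.bil_eq, F_add_self]
  refine P.false_of_count M hW (good (q b) (q t.1) δ)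
    (fun k => ((bil (dd k t.2.1) t.2.1, bil (dd k t.2.1) t.2.2.1, bil (dd k t.2.1) t.2.2.2),
      (bil (dd k t.2.2.1) t.2.1, bil (dd k t.2.2.1) t.2.2.1, bil (dd k t.2.2.1) t.2.2.2),
      (bil (dd k t.2.2.2) t.2.1, bil (dd k t.2.2.2) t.2.2.1, bil (dd k t.2.2.2) t.2.2.2))) ?_ ?_ ?_
  · intro k hk h
    have E1 : ∀ c p, k c = c + comb p e0 b t.1 →
        qc (q b) (q t.1) p + bil c (comb p e0 b t.1) = 0 := fun c p e => by
      have := hk.qq c
      rw [e, q_add, qc_spec hb hm hbm, F_move₁] at this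
      exact this
    have E2 : ∀ c c' p r, k c = c + comb p e0 b t.1 → k c' = c' + comb r e0 b t.1 →
        bil c (comb r e0 b t.1) + bil (comb p e0 b t.1) c' + bc (q b) p r = 0 := fun c c' p r e e' => by
      have h2 := hk.bil_eq c c'
      rw [e, e', bil_add_left, bil_add_right, bil_add_right, bc_spec hb hm hbm] at h2
      rw [show ∀ a b c d : F, a + b + (c + d) = a ↔ b + c + d = 0 by decide] at h2
      exact h2
    have a1 := E1 _ _ (img k hk h t.2.1)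
    have a2 := E1 _ _ (img k hk h t.2.2.1)
    have a3 := E1 _ _ (img k hk h t.2.2.2)
    have b12 := E2 _ _ _ _ (img k hk h t.2.1) (img k hk h t.2.2.1)
    have b13 := E2 _ _ _ _ (img k hk h t.2.1) (img k hk h t.2.2.2)
    have b23 := E2 _ _ _ _ (img k hk h t.2.2.1) (img k hk h t.2.2.2)
    simp only [comb, bil_add_left, bil_add_right, bil_sm_left, bil_sm_right, d11, d21, d31, d12, d22,
      d32, d13, d23, hδ, CoT.bil_comm e0 t.2.1, CoT.bil_comm e0 t.2.2.1, CoT.bil_comm e0 t.2.2.2,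
      CoT.bil_comm b t.2.1, CoT.bil_comm b t.2.2.1, CoT.bil_comm b t.2.2.2,
      CoT.bil_comm t.1 t.2.1, CoT.bil_comm t.1 t.2.2.1, CoT.bil_comm t.1 t.2.2.2,
      mul_one, mul_zero, add_zero, zero_add] at a1 a2 a3 b12 b13 b23
    simp only [good, Finset.mem_filter, Finset.mem_univ, true_and]
    refine ⟨a1, a2, by linear_combination a3, by linear_combination b12, by linear_combination b13,
      by linear_combination b23, fun e => ?_⟩
    obtain ⟨-, hc, -⟩ := hδ0 e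
    simp [hc, dd, hk.zero, bil_zero_right, bil_zero_left, add_zero]
  · intro k k' hk hk' h h' e
    obtain ⟨a0', a1', a2'⟩ := (Prod.ext_iff.1 e).imp id Prod.ext_iff.1
    have s0 : k t.2.1 = k' t.2.1 := by
      conv_lhs => rw [img k hk h]
      conv_rhs => rw [img k' hk' h']
      simp only [Prod.ext_iff] at a0'
      rw [a0'.1, a0'.2.1, a0'.2.2]
    have s1 : k t.2.2.1 = k' t.2.2.1 := by
      conv_lhs => rw [img k hk h]
      conv_rhs => rw [img k' hk' h']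
      simp only [Prod.ext_iff] at a1'
      rw [a1'.1, a1'.2.1, a1'.2.2]
    have s2 : k t.2.2.2 = k' t.2.2.2 := by
      conv_lhs => rw [img k hk h]
      conv_rhs => rw [img k' hk' h']
      simp only [Prod.ext_iff] at a2'
      rw [a2'.1, a2'.2.1, a2'.2.2]
    funext v
    obtain ⟨d1, d2, d3⟩ := hdec v
    have hd : k (dec3 (e0, b, t.1) t.2 v) = k' (dec3 (e0, b, t.1) t.2 v) := by
      rw [fixR k h _ d1 d2 d3, fixR k' h' _ d1 d2 d3]
    simp only [dec3, comb, hk.add, hk'.add, hk.sm, hk'.sm, s0, s1, s2] at hd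
    exact add_right_cancel hd
  · rw [← hq]
    exact card_good _ _ _ fun e => by
      obtain ⟨h1, -, h2⟩ := hδ0 e
      exact ⟨h2, by rw [h1, q_zero]⟩

omit M in
/-- Size contradiction when `C_Q(x)` is the whole fixed space. -/
theorem false_of_E0 (M0 : Mu z Q π ρ x 0) (hW : ∀ w ∈ Q, w ∈ cj g Q → w = 1)
    (hker : ∀ v, dd (ρ x) v = 0 ↔ bil v e0 = 0 ∧ bil v e1 = 0) : False :=
  P.false_of_table M0 hW hker (t := (0, f0, f1, 0)) (δ := 0) (fun _ _ _ => rfl) rfl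
    (by rw [CoT.bil_comm]; exact two_facts.2.2.1) (bil_zero_right _)
    (by rw [bil_zero_right]; exact two_facts.2.2.2.2.2.2.2.2.2.1.symm)
    dual0 (bil_zero_right _) ⟨bil_zero_right _, bil_zero_right _⟩
    fun _ => ⟨rfl, rfl, two_facts.2.2.2.2.2.2.2.2.2.1⟩

/-- The alternatives for a conjugate with two-dimensional commutator space. -/
theorem two_cases (h : ρ x = sg e0 e1 ∨ ρ x = sg e0 a0) : IsRoot z Q π ρ g x := by
  obtain ⟨q0, ne0, b10, ba0, qa, f00, f01, f10, f11, q1, b01, de0, de1, dea, dab⟩ := two_facts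
  -- common part
  have key : ∀ b, ρ x = sg e0 b → bil b e0 = 0 → (∀ v, dd (ρ x) v = 0 ↔ bil v e0 = 0 ∧ bil v b = 0) →
      (∃ y, dd (ρ x) y = e0) →
      bil e0 μ = 0 ∧ ((∀ w ∈ Q, w ∈ cj g Q → w = 1) ∨
        ((∀ v, dd (ρ x) v = 0 → bil v μ = 0) ∧ ¬ ∃ l, l * z * l⁻¹ = z * x)) := by
    intro b hf hb hker ⟨y, hy⟩
    have heμ : bil e0 μ = 0 := by rw [← hy, M.dq, hy, q0]
    refine ⟨heμ, ?_⟩
    by_cases hφ : ∀ v, dd (ρ x) v = 0 → bil v μ = 0
    · by_cases hzx : ∃ l, l * z * l⁻¹ = z * x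
      · left
        intro w hw hw'
        obtain ⟨y', hy'⟩ := range_dual P.isom fun v hv => P.inter_bil hw hw' M hv (hφ v hv)
        exact P.inter_range hw hw' hzx hy'
      · exact Or.inr ⟨hφ, hzx⟩
    left
    push Not at hφ
    obtain ⟨v, hv, hv'⟩ := hφ
    have hzx := P.zx_of_mu M hv ((F_cases _).resolve_left hv')
    intro w hw hw'
    have h0 : ∀ u, bil u e0 = 0 → bil u (π w) = 0 := by
      intro u hu
      rcases P.moved M hf q0 hb (fun v hv => ((hker v).1 hv).1) heμ hw hw' hu with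
        ⟨w₂, a, a', e⟩ | ⟨-, h⟩
      · rcases F_cases (bil (π w) u) with c | c
        · rw [CoT.bil_comm, c]
        · exfalso
          rw [c, sm_one] at e
          rw [P.inter_range a a' hzx (hy.trans e.symm), P.S.pi_one] at e
          exact ne0 e.symm
      · exact absurd (h v hv) hv'
    rcases perp_line ne0 h0 with e | e
    · exact P.inter_eq_one hw hw' e
    · exact P.inter_range hw hw' hzx (hy.trans e.symm)
  rcases h with hf | hf
  · have hker : ∀ v, dd (ρ x) v = 0 ↔ bil v e0 = 0 ∧ bil v e1 = 0 := by rw [hf]; exact ker_e1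
    have hy : ∃ y, dd (ρ x) y = e0 := ⟨f1, by rw [hf]; exact de0⟩
    have heμ' : bil e1 μ = 0 := by
      have h := M.dq f0
      rwa [hf, show dd (sg e0 e1) f0 = e1 from de1, q1] at h
    obtain ⟨heμ, hcase⟩ := key e1 hf b10 hker hy
    rcases hcase with hW | ⟨hφ, hzx⟩
    · exfalso
      obtain ⟨t, ht, hd⟩ := tabE_cover μ heμ heμ'
      have hμ : ∀ v, bil v e0 = 0 → bil v e1 = 0 → bil v μ = bil v t.1 := fun v a c => by
        refine F_eq_of_add _ _ ?_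
        rw [← bil_add_right]
        rcases hd with e | e | e | e <;> rw [e]
        exacts [bil_zero_right v, a, c, by rw [bil_add_right, a, c, add_zero]]
      by_cases hφ : ∀ v, dd (ρ x) v = 0 → bil v μ = 0
      · have hμ0 : ∀ v, bil v e0 = 0 → bil v e1 = 0 → bil v 0 = bil v μ := fun v a c => by
          rw [bil_zero_right, hφ v ((hker v).2 ⟨a, c⟩)]
        have M0 : Mu z Q π ρ x 0 := ⟨fun m hm h => by
            rw [M.spec m hm h, hφ _ h, bil_zero_right], fun y => by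
            rw [bil_zero_right, ← M.dq, hφ _ (P.isom.dd_dd y)]⟩
        exact P.false_of_E0 M0 hW hker
      push Not at hφ
      obtain ⟨v, hv, hv'⟩ := hφ
      have Mt : Mu z Q π ρ x t.1 := ⟨fun m hm h => by
          rw [M.spec m hm h, hμ _ ((hker _).1 h).1 ((hker _).1 h).2], fun y => by
          rw [← hμ _ ((hker _).1 (P.isom.dd_dd y)).1 ((hker _).1 (P.isom.dd_dd y)).2, M.dq]⟩
      by_cases ht0 : t.1 = 0
      · exact hv' (by rw [hμ v ((hker v).1 hv).1 ((hker v).1 hv).2, ht0, bil_zero_right])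
      obtain ⟨hm, hm', ht12, htδ⟩ := tabE_data t ht ht0
      exact P.false_of_table Mt hW hker (δ := 1) (fun _ _ _ => rfl) rfl (by rw [CoT.bil_comm, b10]) hm
        (by rw [hm', q1]) (tabE_dual t ht) htδ ht12 fun e => absurd e one_ne_zero
    · have M0 : Mu z Q π ρ x 0 := ⟨fun m hm h => by
          rw [M.spec m hm h, hφ _ h, bil_zero_right], fun y => by
          rw [bil_zero_right, ← M.dq, hφ _ (P.isom.dd_dd y)]⟩
      have hz : ∀ v, dd (ρ x) v = 0 → bil v (0 : V) = 0 := fun v _ => bil_zero_right v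
      have hf' : ρ x = sg e1 e0 := by rw [hf]; exact funext sg_symm01
      -- some non-trivial element of the intersection
      by_cases hW : ∀ w ∈ Q, w ∈ cj g Q → w = 1
      · exfalso
        exact P.false_of_E0 M0 hW hker
      push Not at hW
      obtain ⟨w, hw, hw', hw1⟩ := hW
      have step0 : ∀ {w : G}, w ∈ Q → w ∈ cj g Q → bil (π w) f1 = 1 →
          ∃ w₂, w₂ ∈ Q ∧ w₂ ∈ cj g Q ∧ π w₂ = e0 := by
        intro w hw hw' hb
        rcases P.moved M0 hf q0 b10 (fun v hv => ((hker v).1 hv).1) (bil_zero_right _) hw hw' f10 with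
          ⟨w₂, a, a', e⟩ | ⟨h, -⟩
        · exact ⟨w₂, a, a', by rw [e, hb, sm_one]⟩
        · exact absurd h hzx
      have step1 : ∀ {w : G}, w ∈ Q → w ∈ cj g Q → bil (π w) f0 = 1 →
          ∃ w₂, w₂ ∈ Q ∧ w₂ ∈ cj g Q ∧ π w₂ = e1 := by
        intro w hw hw' hb
        rcases P.moved M0 hf' q1 b01 (fun v hv => ((hker v).1 hv).2) (bil_zero_right _) hw hw' f01 with
          ⟨w₂, a, a', e⟩ | ⟨h, -⟩
        · exact ⟨w₂, a, a', by rw [e, hb, sm_one]⟩
        · exact absurd h hzx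
      have bf0 : bil e0 f0 = 1 := by rw [CoT.bil_comm, f00]
      have bf1 : bil e1 f1 = 1 := by rw [CoT.bil_comm, f11]
      have hu : π w = comb (bil (π w) f0, bil (π w) f1, bil (π w) 0) e0 e1 0 :=
        eq_comb01 fun v a c => P.inter_bil hw hw' M0 ((hker v).2 ⟨a, c⟩) (bil_zero_right v)
      rcases F_cases (bil (π w) f1) with c | c
      · rcases F_cases (bil (π w) f0) with d | d
        · refine absurd (P.inter_eq_one hw hw' ?_) hw1
          rw [hu, c, d]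
          simp [comb, sm_zero, bil_zero_right]
        · obtain ⟨w₂, a, a', e⟩ := step1 hw hw' d
          obtain ⟨w₃, a₃, a₃', e₃⟩ := step0 a a' (by rw [e, bf1])
          exact ⟨hf, M0, ⟨w₃, a₃, a₃', e₃⟩, ⟨w₂, a, a', e⟩⟩
      · obtain ⟨w₂, a, a', e⟩ := step0 hw hw' c
        obtain ⟨w₃, a₃, a₃', e₃⟩ := step1 a a' (by rw [e, bf0])
        exact ⟨hf, M0, ⟨w₂, a, a', e⟩, ⟨w₃, a₃, a₃', e₃⟩⟩
  · exfalso
    have hker : ∀ v, dd (ρ x) v = 0 ↔ bil v e0 = 0 ∧ bil v a0 = 0 := by rw [hf]; exact ker_a0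
    have hy : ∃ y, dd (ρ x) y = e0 := ⟨e1, by rw [hf]; exact dea⟩
    obtain ⟨heμ, hcase⟩ := key a0 hf ba0 hker hy
    have haμ : bil a0 μ = 1 := by
      have h := M.dq f0
      rw [hf, show dd (sg e0 a0) f0 = a0 + e0 from dab, bil_add_left, heμ, add_zero, q_add, qa, q0,
        ba0, add_zero, add_zero] at h
      exact h
    have hW : ∀ w ∈ Q, w ∈ cj g Q → w = 1 := hcase.resolve_right fun ⟨hφ, _⟩ => by
      have := hφ a0 ((hker a0).2 ⟨ba0, CoT.bil_self a0⟩)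
      rw [haμ] at this
      exact one_ne_zero this
    obtain ⟨t, ht, hd⟩ := tabA_cover μ heμ haμ
    have hμ : ∀ v, bil v e0 = 0 → bil v a0 = 0 → bil v μ = bil v t.1 := fun v a c => by
      refine F_eq_of_add _ _ ?_
      rw [← bil_add_right]
      rcases hd with e | e | e | e <;> rw [e]
      exacts [bil_zero_right v, a, c, by rw [bil_add_right, a, c, add_zero]]
    have Mt : Mu z Q π ρ x t.1 := ⟨fun m hm h => by
        rw [M.spec m hm h, hμ _ ((hker _).1 h).1 ((hker _).1 h).2], fun y => by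
        rw [← hμ _ ((hker _).1 (P.isom.dd_dd y)).1 ((hker _).1 (P.isom.dd_dd y)).2, M.dq]⟩
    obtain ⟨hm, hm', ht12, htδ⟩ := tabA_data t ht
    exact P.false_of_table Mt hW hker (δ := 1) (fun _ _ _ => rfl) rfl (by rw [CoT.bil_comm, ba0]) hm
      (by rw [hm', qa]) (tabA_dual t ht) htδ ht12 fun e => absurd e one_ne_zero

end Pr

end Cfsg.Agent.Co1NW
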