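import Cfsg.Agent.Lib.Co1Recog.NonWeak.Four
import Cfsg.Agent.Lib.Co1Recog.NonWeak.Root

/-!
Every pair has a four-dimensional commutator space.
-/

set_option autoImplicit false
set_option linter.style.haveILetI false
set_option linter.unusedSectionVars false
set_option synthInstance.maxSize 4000

namespace Cfsg.Agent.Co1NW

open Subgroup LargeExtra CoT

variable {G : Type*} [Group G] [Finite G] {z : G} {Q : Subgroup G} {π : G → V} {ρ : G → V → V}

namespace Pr

variable {g x : G} (P : Pr z Q π ρ g x)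
include P

theorem exists_nf : ∃ g' x', Pr z Q π ρ g' x' ∧ (∃ h, h * z = z * h ∧ h * x * h⁻¹ = x') ∧
    ∃ w ∈ [e3, f3, e3 + f3], ρ x' = nf w := by
  obtain ⟨g', x', P', hc, h⟩ := P.exists_rep
  rcases h with h | h | h
  · obtain ⟨μ, M⟩ := P'.exists_mu
    exact (P'.root_false (P'.two_cases M (Or.inl h))).elim
  · obtain ⟨μ, M⟩ := P'.exists_mu
    exact (P'.root_false (P'.two_cases M (Or.inr h))).elim
  · exact ⟨g', x', P', hc, h⟩

theorem four : Four (ρ x) := by
  obtain ⟨g', x', P', ⟨h, hh, rfl⟩, w, hw, e⟩ := P.exists_nf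
  refine (e ▸ four_nf hw : Four (ρ (h * x * h⁻¹))).transfer (P.S.om _ (P.S.comm_inv hh)) fun v => ?_
  rw [← P.S.rho_mul P.comm (P.S.comm_inv hh), ← P.S.rho_mul (P.S.comm_inv hh) P'.comm,
    show h⁻¹ * (h * x * h⁻¹) = x * h⁻¹ by group]

theorem inter : ∀ w ∈ Q, w ∈ cj g Q → w = 1 := P.four_inter P.four

end Pr

end Cfsg.Agent.Co1NW
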